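import Cfsg.Agent.Lib.LieLocalChar.Basic
import Cfsg.Agent.SimpleFacts.BorelTits.Main
import Cfsg.Agent.SimpleFacts.ChevalleyRadical
import Cfsg.Agent.Lib.Chevalley.Types.CoefAll

/-!
# The exceptional Chevalley groups have local characteristic `p`
-/

set_option autoImplicit false

namespace Cfsg.Agent.LieLocalChar.Exceptional

open Cfsg.Lie Cfsg.Agent.Chevalley.Table Cfsg.Agent.Chevalley.Cert

theorem lc {D : ChevalleyDatum} {T : Tab} (hC : Certified D T) {N : List (List ℤ)}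
    (hN : Cfsg.Agent.Chevalley.Coef.coefChk T N = true)
    (hS : SimpleFacts.ChevalleyRadical.stepChk T = true)
    (hD : D ∈ [chevG2, chevB2, chevD4, chevF4, chevE6, chevE7, chevE8])
    {F : Type*} [Field F] [Fintype F] {p : ℕ} [Fact p.Prime] [CharP F p] :
    LC p (⊥ : Subgroup ↥(D.group F)) := by
  classical
  refine of_embedding (D.group F).subtype (D.group F).subtype_injective fun U hU hne => ?_
  obtain ⟨g, hg, J, hJ, hle, -⟩ := SimpleFacts.BorelTits.borel_tits p D hD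
    (U.map (D.group F).subtype) (Subgroup.map_subtype_le _) (hU.map _)
    (by rwa [Ne, Subgroup.map_eq_bot_iff_of_injective _ (D.group F).subtype_injective])
  have hUG : D.unipotentRadical F J ≤ D.group F :=
    ((SimpleFacts.ChevalleyRadical.radical_le_U hC J).trans le_sup_left).trans
      (Cfsg.Agent.Chevalley.Borel.B_le_group hC)
  have hnorm := Cfsg.Agent.Chevalley.Parabolic.normalizes (F := F) hC hN J
  have hmem : ∀ y ∈ Subgroup.normalizer (U : Set ↥(D.group F)),
      (y : GL D.Idx F) ∈ (D.parabolicSubgroup F J).map (MulAut.conj g).toMonoidHom := fun y hy =>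
    hle ⟨Subgroup.le_normalizer_map (D.group F).subtype (Subgroup.mem_map_of_mem _ hy), y.2⟩
  refine ⟨(D.unipotentRadical F J).map (MulAut.conj g).toMonoidHom,
    ((SimpleFacts.ChevalleyRadical.isPGroup_U hC p).to_le
      (SimpleFacts.ChevalleyRadical.radical_le_U hC J)).map _, fun q hq y => ?_,
    fun y hy q hq => ?_, fun x hxN hxp hc => ?_⟩
  · obtain ⟨r, hr, rfl⟩ := hq
    have hqG : g * r * g⁻¹ ∈ D.group F := mul_mem (mul_mem hg (hUG hr)) (inv_mem hg)
    exact ⟨⟨g * r * g⁻¹, hqG⟩ * y * (⟨g * r * g⁻¹, hqG⟩ : ↥(D.group F))⁻¹, rfl⟩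
  · obtain ⟨r, hr, rfl⟩ := hq
    obtain ⟨b, hb, he⟩ := hmem y hy
    refine ⟨b * r * b⁻¹, (Subgroup.mem_normalizer_iff.1 (hnorm hb) r).1 hr, ?_⟩
    show g * (b * r * b⁻¹) * g⁻¹ = (y : GL D.Idx F) * (g * r * g⁻¹) * (y : GL D.Idx F)⁻¹
    rw [← show g * b * g⁻¹ = (y : GL D.Idx F) from he]
    group
  · obtain ⟨b, hb, he⟩ := hmem x hxN
    replace he : g * b * g⁻¹ = (x : GL D.Idx F) := he
    have hbR := SimpleFacts.ChevalleyRadical.centralizer_le_radical hC hN hS hJ hb fun r hr => by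
      have h1 := hc _ (Subgroup.mem_map_of_mem (MulAut.conj g).toMonoidHom hr)
      change (x : GL D.Idx F) * (g * r * g⁻¹) = g * r * g⁻¹ * (x : GL D.Idx F) at h1
      rw [← he] at h1
      have h2 := congrArg (fun z => g⁻¹ * z * g) h1
      simpa [mul_assoc] using h2
    obtain ⟨k, hk⟩ := (SimpleFacts.ChevalleyRadical.isPGroup_U hC p)
      ⟨b, SimpleFacts.ChevalleyRadical.radical_le_U hC J hbR⟩
    have hbk : b ^ p ^ k = 1 := congrArg Subtype.val hk
    refine Subgroup.mem_bot.2 (eq_one_of_pow_eq_one (hxp.pow_right k) (pow_orderOf_eq_one x) ?_)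
    refine Subtype.ext ?_
    rw [SubmonoidClass.coe_pow, ← he, conj_pow, hbk]
    simp

theorem lc_G2 {F : Type*} [Field F] [Fintype F] {p : ℕ} [Fact p.Prime] [CharP F p] :
    LC p (⊥ : Subgroup ↥(chevG2.group F)) :=
  lc Cfsg.Agent.Chevalley.Types.G2.certified Cfsg.Agent.Chevalley.Types.CoefG2.coef_ok
    (by decide +kernel) (by simp)

theorem lc_F4 {F : Type*} [Field F] [Fintype F] {p : ℕ} [Fact p.Prime] [CharP F p] :
    LC p (⊥ : Subgroup ↥(chevF4.group F)) :=
  lc Cfsg.Agent.Chevalley.Types.F4.certified Cfsg.Agent.Chevalley.Types.CoefF4.coef_ok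
    (by decide +kernel) (by simp)

theorem lc_E6 {F : Type*} [Field F] [Fintype F] {p : ℕ} [Fact p.Prime] [CharP F p] :
    LC p (⊥ : Subgroup ↥(chevE6.group F)) :=
  lc Cfsg.Agent.Chevalley.Types.E6.certified Cfsg.Agent.Chevalley.Types.CoefE6.coef_ok
    (by decide +kernel) (by simp)

theorem lc_E7 {F : Type*} [Field F] [Fintype F] {p : ℕ} [Fact p.Prime] [CharP F p] :
    LC p (⊥ : Subgroup ↥(chevE7.group F)) :=
  lc Cfsg.Agent.Chevalley.Types.E7.certified Cfsg.Agent.Chevalley.Types.CoefE7.coef_ok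
    (by decide +kernel) (by simp)

theorem lc_E8 {F : Type*} [Field F] [Fintype F] {p : ℕ} [Fact p.Prime] [CharP F p] :
    LC p (⊥ : Subgroup ↥(chevE8.group F)) :=
  lc Cfsg.Agent.Chevalley.Types.E8.certified Cfsg.Agent.Chevalley.Types.CoefE8.coef_ok
    (by decide +kernel) (by simp)

end Cfsg.Agent.LieLocalChar.Exceptional
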