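import Cfsg.Agent.Lib.LieLocalChar.Matrix
import Cfsg.Agent.Lib.Forms.QuadStd

/-!
# `PSL` has local characteristic `p`
-/

set_option autoImplicit false
set_option linter.unusedSectionVars false

namespace Cfsg.Agent.LieLocalChar.Linear

open Matrix Form Mat

variable {F : Type*} [Field F] [Finite F] {p : ℕ} [Fact p.Prime] [CharP F p] {n : ℕ}

local notation "SL" => Matrix.SpecialLinearGroup (Fin n) F
local notation "V" => (Fin n → F)

theorem lc_cover (hn : 2 ≤ n) : LC p (Subgroup.center SL) := by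
  have : Nonempty (Fin n) := ⟨⟨0, by omega⟩⟩
  set ρ : SL →* (V ≃ₗ[F] V) := toEquiv.comp Matrix.SpecialLinearGroup.toGL with hρdef
  have hρ : ∀ (y : SL) (v : V), ρ y v = (y : Matrix (Fin n) (Fin n) F) *ᵥ v := fun y v => rfl
  have hinj : Function.Injective ρ := fun a b h => Subtype.ext (Matrix.ext_iff_mulVec.2 fun v => by
    rw [← hρ, ← hρ, h])
  refine of_embedding ρ hinj fun T hT hne => ?_
  set W := fixSub ρ T with hWdef
  have hWtop : W ≠ ⊤ := fun htop => hne ((Subgroup.eq_bot_iff_forall _).2 fun t ht => hinj (by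
    rw [map_one]
    exact LinearEquiv.ext fun v => (htop ▸ Submodule.mem_top : v ∈ W) t ht))
  have hW0 : W ≠ ⊥ := by
    intro h
    obtain ⟨y, -, hy0, hfix⟩ := exists_fixed hT ρ (bot_lt_top (α := Submodule F V))
      (fun t _ v hv => by rw [Submodule.mem_bot] at hv ⊢; rw [hv, map_zero])
      (fun t _ v _ => Submodule.mem_top)
    have : y ∈ W := fun t ht => sub_eq_zero.1 ((Submodule.mem_bot F).1 (hfix t ht))
    rw [h] at this
    exact hy0 this
  let R : Subgroup (V ≃ₗ[F] V) :=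
    { carrier := {g | (∀ w ∈ W, g w = w) ∧ ∀ v, g v - v ∈ W}
      one_mem' := ⟨fun w _ => rfl, fun v => by simp⟩
      mul_mem' := fun {g h} hg hh => ⟨fun w hw => by
          show g (h w) = w
          rw [hh.1 w hw, hg.1 w hw], fun v => by
          show g (h v) - v ∈ W
          simpa using W.add_mem (hg.2 (h v)) (hh.2 v)⟩
      inv_mem' := fun {g} hg => by
        refine ⟨fun w hw => ?_, fun v => ?_⟩
        · conv_lhs => rw [← hg.1 w hw]
          exact g.symm_apply_apply w
        · have := W.neg_mem (hg.2 (g⁻¹ v))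
          rwa [show g (g⁻¹ v) = v from g.apply_symm_apply v, neg_sub] at this }
  refine ⟨R, ?_, fun q _ y => ?_, fun y hy q hq => ?_, fun x hxN hxp hc => ?_⟩
  · rintro ⟨g, hgW, hgV⟩
    refine ⟨2, Subtype.ext (LinearEquiv.ext fun v => ?_)⟩
    have h3 : ((g : Module.End F V) - 1) ^ 3 = 0 := by
      refine LinearMap.ext fun v => ?_
      simp only [pow_succ, pow_zero, one_mul, Module.End.mul_apply, LinearMap.sub_apply,
        Module.End.one_apply, LinearEquiv.coe_coe, LinearMap.zero_apply]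
      exact sub_eq_zero.2 (hgW _ (hgV _))
    show (g ^ p ^ 2) v = v
    exact (LinearMap.congr_fun
      (map_pow (LinearEquiv.automorphismGroup.toLinearMapMonoidHom (R := F) (M := V)) g (p ^ 2))
        v).trans (LinearMap.congr_fun (pow_sub_one (p := p) h3) v)
  · obtain ⟨g, rfl⟩ : ∃ g : GL (Fin n) F, toEquiv g = q :=
      ⟨Forms.QuadStd.glOfEquiv q, LinearEquiv.ext fun v => by
        rw [toEquiv_apply, Forms.QuadStd.glOfEquiv_mulVec]⟩
    have hdet : (((g * Matrix.SpecialLinearGroup.toGL y * g⁻¹ : GL (Fin n) F)) :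
        Matrix (Fin n) (Fin n) F).det = 1 := by
      have h1 : Matrix.GeneralLinearGroup.det (g * Matrix.SpecialLinearGroup.toGL y * g⁻¹) = 1 := by
        have h2 : Matrix.GeneralLinearGroup.det (Matrix.SpecialLinearGroup.toGL y) = 1 :=
          Units.ext y.2
        rw [map_mul, map_mul, h2, mul_one, map_inv, mul_inv_cancel]
      exact congrArg Units.val h1
    refine ⟨⟨_, hdet⟩, ?_⟩
    show toEquiv _ = toEquiv g * toEquiv (Matrix.SpecialLinearGroup.toGL y) * (toEquiv g)⁻¹
    rw [← map_inv, ← map_mul, ← map_mul]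
    exact congrArg toEquiv (Units.ext rfl)
  · have hinv : ∀ {z : SL}, z ∈ Subgroup.normalizer (T : Set SL) → ∀ v ∈ W, ρ z v ∈ W :=
      fun hz v hv => fixSub_invariant ρ T hz hv
    refine ⟨fun w hw => ?_, fun v => ?_⟩
    · show ρ y (q ((ρ y)⁻¹ w)) = w
      rw [hq.1 _ (by rw [← map_inv]; exact hinv (inv_mem hy) w hw)]
      exact (ρ y).apply_symm_apply w
    · have h1 := hinv hy _ (hq.2 ((ρ y)⁻¹ v))
      rw [map_sub] at h1
      rwa [show ρ y ((ρ y)⁻¹ v) = v from (ρ y).apply_symm_apply v] at h1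
  set X := ρ x
  have key : ∀ (φ : V →ₗ[F] F), (∀ w ∈ W, φ w = 0) → ∀ w ∈ W, ∀ v,
      φ v • X w = φ (X v) • w := by
    intro φ hφ w hw v
    have hφw := hφ w hw
    let a : V ≃ₗ[F] V := LinearEquiv.ofLinearMap (LinearMap.id + φ.smulRight w)
      (LinearMap.id - φ.smulRight w)
      (LinearMap.ext fun z => by simp [hφw]) (LinearMap.ext fun z => by simp [hφw])
    have ha : a ∈ R := ⟨fun u hu => by simp [a, hφ u hu],
      fun z => by simpa [a] using W.smul_mem (φ z) hw⟩
    have h1 : X (a v) = a (X v) := LinearEquiv.congr_fun (hc a ha) v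
    simpa [a] using h1
  have hxW : ∀ w ∈ W, X w ∈ W := fun w hw => fixSub_invariant ρ T hxN hw
  obtain ⟨v₀, hv₀⟩ : ∃ v₀, v₀ ∉ W := by
    by_contra h; push Not at h; exact hWtop (eq_top_iff.2 fun v _ => h v)
  obtain ⟨φ₀, hφv, hφ₀⟩ := Submodule.exists_dual_map_eq_bot_of_notMem hv₀ inferInstance
  have hφW : ∀ w ∈ W, φ₀ w = 0 := fun w hw => by
    have := Submodule.mem_map_of_mem (f := φ₀) hw
    rwa [hφ₀, Submodule.mem_bot] at this
  set lam := (φ₀ v₀)⁻¹ * φ₀ (X v₀)
  have hlam : ∀ w ∈ W, X w = lam • w := fun w hw => by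
    rw [show lam = (φ₀ v₀)⁻¹ * φ₀ (X v₀) from rfl, mul_smul, ← key φ₀ hφW w hw v₀, smul_smul,
      inv_mul_cancel₀ hφv, one_smul]
  obtain ⟨w₀, hw₀, hw₀0⟩ := W.ne_bot_iff.1 hW0
  have hlam0 : lam ≠ 0 := fun h => hw₀0 (X.injective (by
    rw [hlam w₀ hw₀, h, zero_smul, map_zero]))
  have hout : ∀ v, X v - lam • v ∈ W := fun v => by
    by_contra hv
    obtain ⟨φ, hφv, hφ⟩ := Submodule.exists_dual_map_eq_bot_of_notMem hv inferInstance
    have hφ' : ∀ w ∈ W, φ w = 0 := fun w hw => by
      have := Submodule.mem_map_of_mem (f := φ) hw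
      rwa [hφ, Submodule.mem_bot] at this
    have h1 := key φ hφ' w₀ hw₀ v
    rw [hlam w₀ hw₀, smul_smul, ← sub_eq_zero, ← sub_smul, smul_eq_zero] at h1
    refine hφv ?_
    rw [map_sub, map_smul, smul_eq_mul]
    linear_combination -(h1.resolve_right hw₀0)
  have hnil : ((X : Module.End F V) - algebraMap F (Module.End F V) lam) ^ 3 = 0 := by
    refine LinearMap.ext fun v => ?_
    simp only [pow_succ, pow_zero, one_mul, Module.End.mul_apply, LinearMap.sub_apply,
      Module.algebraMap_end_apply, LinearEquiv.coe_coe, LinearMap.zero_apply]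
    exact sub_eq_zero.2 (hlam _ (hout _))
  obtain ⟨ν, hν⟩ := scalar_of_nilpotent (p := p)
    (by rw [show orderOf X = orderOf x from orderOf_injective ρ hinj x]; exact hxp) hlam0 hnil
  refine Subgroup.mem_center_iff.2 fun y => hinj ?_
  rw [map_mul, map_mul]
  refine LinearEquiv.ext fun v => ?_
  show ρ y (X v) = X (ρ y v)
  rw [hν, hν, map_smul]

theorem lc (hn : 2 ≤ n) :
    LC p (⊥ : Subgroup (Matrix.ProjectiveSpecialLinearGroup (Fin n) F)) := by
  refine cover (QuotientGroup.mk' (Subgroup.center SL)) (QuotientGroup.mk'_surjective _)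
    (QuotientGroup.ker_mk' _).le ?_
  rw [QuotientGroup.ker_mk']
  exact lc_cover hn

end Cfsg.Agent.LieLocalChar.Linear
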