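import Cfsg.Agent.Lib.LieLocalChar.Matrix
import Cfsg.Agent.Lib.Classical.OrthForms

/-!
# `PΩ` has local characteristic `p`
-/

set_option autoImplicit false
set_option linter.unusedSectionVars false

namespace Cfsg.Agent.LieLocalChar.Orth

open Matrix Cfsg.Agent.Forms Cfsg.Agent.Forms.QuadStd Cfsg.Agent.Forms.Reflections Cfsg.Agent.Classical.Orth

variable {F : Type*} [Field F] [Fintype F] {ι : Type} [Fintype ι] [DecidableEq ι]
  {Q : QuadraticForm F (ι → F)}

local notation "Vec" => (ι → F)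
local notation "B" => QuadraticMap.polar Q
local notation "Iso" => Cfsg.isometryGroup F (DFunLike.coe Q)
local notation "Ω" => Cfsg.Omega F (DFunLike.coe Q)

/-- the polar form as a pairing -/
noncomputable def pairing (hQ : (QuadraticMap.polarBilin Q).Nondegenerate) :
    Form.Pairing F (ι → F) where
  f u v := B u v
  τ := id
  add_left := QuadraticMap.polar_add_left Q
  smul_left c v w := QuadraticMap.polar_smul_left Q c v w
  add_right := QuadraticMap.polar_add_right Q
  smul_right c v w := QuadraticMap.polar_smul_right Q c v w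
  refl v w h := by rwa [QuadraticMap.polar_comm]
  nondeg v h := hQ.1 v h
  τ_surj c := ⟨c, rfl⟩

/-- the singular vectors of a totally isotropic subspace -/
def sing (W : Submodule F Vec) (hW : ∀ u ∈ W, ∀ v ∈ W, B u v = 0) : Submodule F Vec where
  carrier := {w | w ∈ W ∧ Q w = 0}
  zero_mem' := ⟨W.zero_mem, QuadraticMap.map_zero _⟩
  add_mem' := fun {a b} ha hb => ⟨W.add_mem ha.1 hb.1, by
    rw [QuadraticMap.map_add Q, ha.2, hb.2, hW a ha.1 b hb.1, add_zero, add_zero]⟩
  smul_mem' := fun c {a} ha => ⟨W.smul_mem c ha.1, by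
    rw [QuadraticMap.map_smul, ha.2, smul_zero]⟩

theorem le_span_of_sing_eq_bot (W : Submodule F Vec) (hW : ∀ u ∈ W, ∀ v ∈ W, B u v = 0)
    (h0 : sing W hW = ⊥) {v : Vec} (hv : v ∈ W) (hv0 : v ≠ 0) :
    W ≤ Submodule.span F {v} ∧ Q v ≠ 0 ∧ (2 : F) = 0 := by
  have hQ0 : ∀ w ∈ W, Q w = 0 → w = 0 := fun w hw h => by
    have : w ∈ sing W hW := ⟨hw, h⟩
    rwa [h0, Submodule.mem_bot] at this
  have hQv : Q v ≠ 0 := fun h => hv0 (hQ0 v hv h)
  have h2 : (2 : F) = 0 := by
    have h := hW v hv v hv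
    rw [polar_self', mul_eq_zero] at h
    exact h.resolve_right hQv
  refine ⟨fun w hw => ?_, hQv, h2⟩
  have : CharP F 2 := CharTwo.of_one_ne_zero_of_two_eq_zero one_ne_zero h2
  obtain ⟨c, hc⟩ := FiniteField.isSquare_of_char_two (ringChar.eq F 2) (Q w / Q v)
  refine Submodule.mem_span_singleton.2 ⟨c, ?_⟩
  refine (sub_eq_zero.1 (hQ0 _ (W.sub_mem hw (W.smul_mem c hv)) ?_)).symm
  rw [Classical.Orth.map_sub', QuadraticMap.polar_smul_right, hW w hw v hv, Classical.Orth.map_smul', smul_zero, sub_zero, ← hc,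
    div_mul_cancel₀ _ hQv, ← two_mul, h2, zero_mul]

variable {p : ℕ} [Fact p.Prime] [CharP F p]

theorem par_omega (hQ : (QuadraticMap.polarBilin Q).Nondegenerate) (hn : 5 ≤ Fintype.card ι)
    {g : Iso} (hg : g ∈ Ω) : par g = 1 := by
  let P : Iso →* ℤˣ := MonoidHom.mk' par fun a b => par_mul hQ
    (by rw [refGroup_eq_top hQ (Or.inr (by omega))]; exact Subgroup.mem_top a) b
  exact MonoidHom.mem_ker.1 (Abelianization.commutator_subset_ker P hg)

theorem lc_cover (hQ : (QuadraticMap.polarBilin Q).Nondegenerate) (hn : 5 ≤ Fintype.card ι) :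
    LC p (Subgroup.center Ω) := by
  set φ : Ω →* GL ι F := (Iso).subtype.comp (Ω).subtype with hφdef
  have hinj : Function.Injective φ := fun a b h => Subtype.ext (Subtype.ext h)
  have hpres : ∀ (y : Ω) (u v : Vec), (pairing hQ).f ((φ y : Matrix ι ι F) *ᵥ u)
      ((φ y : Matrix ι ι F) *ᵥ v) = (pairing hQ).f u v := fun y => QuadStd.iso_polar Q y.1
  refine Mat.lc (pairing hQ) (Iso) (fun g hg => QuadStd.iso_polar Q ⟨g, hg⟩) φ hinj
    (fun y => y.1.2) (fun a ha y => ?_) (by omega) (ε := (-1 : F)) (by simp) (fun w => Q w = 0)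
    (fun w _ hw u hu => ?_) (fun w _ _ h => absurd h (by omega)) (fun T hT hne => ?_)
  · exact ⟨⟨⟨a, ha⟩ * y.1 * (⟨a, ha⟩ : Iso)⁻¹,
      (inferInstance : (commutator Iso).Normal).conj_mem _ y.2 _⟩, rfl⟩
  · have hwu : B w u = 0 := by rw [QuadraticMap.polar_comm]; exact hu
    refine ⟨(eich w u hw hwu).1, (eich w u hw hwu).2, fun v => - B v u - Q u * B v w,
      fun v => ?_, fun v hv => ?_⟩
    · rw [← act_apply, act_eich]
      show _ = v + B v w • u + (- B v u - Q u * B v w) • w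
      module
    · show - B v u - Q u * B v w = -1 * B v u
      rw [show B v w = 0 from hv, mul_zero, sub_zero, neg_one_mul]
  obtain ⟨W, hW0, hWiso, hWinv⟩ := Mat.fixRad_spec (pairing hQ) φ hinj hpres T hT hne
  have hQinv : ∀ (y : Ω) (v : Vec), Q ((φ y : Matrix ι ι F) *ᵥ v) = Q v :=
    fun y v => QuadStd.iso_mulVec y.1 v
  have finish : ∀ (Z : Submodule F Vec) (hZ : ∀ u ∈ Z, ∀ v ∈ Z, B u v = 0),
      (∀ y ∈ Subgroup.normalizer (T : Set Ω), ∀ v ∈ Z, (φ y : Matrix ι ι F) *ᵥ v ∈ Z) →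
      sing Z hZ ≠ ⊥ → ∃ W : Submodule F Vec, W ≠ ⊥ ∧
      (∀ u ∈ W, ∀ v ∈ W, B u v = 0) ∧ (∀ w ∈ W, Q w = 0) ∧
      ∀ y ∈ Subgroup.normalizer (T : Set Ω), ∀ v ∈ W, (φ y : Matrix ι ι F) *ᵥ v ∈ W :=
    fun Z hZ hinv h => ⟨sing Z hZ, h, fun u hu v hv => hZ u hu.1 v hv.1, fun w hw => hw.2,
      fun y hy v hv => ⟨hinv y hy v hv.1, (hQinv y v).trans hv.2⟩⟩
  by_cases hs : sing W hWiso = ⊥
  swap
  · exact finish W hWiso hWinv hs
  obtain ⟨v, hv, hv0⟩ := W.ne_bot_iff.1 hW0
  obtain ⟨hWv, hQv, h2⟩ := le_span_of_sing_eq_bot W hWiso hs hv hv0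
  set L := Submodule.span F {v}
  have hLinv : ∀ y ∈ Subgroup.normalizer (T : Set Ω), ∀ u ∈ L,
      (φ y : Matrix ι ι F) *ᵥ u ∈ L := fun y hy u hu =>
    hWv (hWinv y hy u ((Submodule.span_singleton_le_iff_mem _ _).2 hv hu))
  have hTN : T ≤ Subgroup.normalizer (T : Set Ω) := Subgroup.le_normalizer
  let P := (polB Q).orthogonal L
  have hPinv : ∀ y ∈ Subgroup.normalizer (T : Set Ω), ∀ u ∈ P,
      (φ y : Matrix ι ι F) *ᵥ u ∈ P := fun y hy u hu => mem_orth.2 fun l hl => by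
    have h1 := hLinv y⁻¹ (inv_mem hy) l hl
    have e : l = (φ y : Matrix ι ι F) *ᵥ ((φ y⁻¹ : Matrix ι ι F) *ᵥ l) := by
      rw [mulVec_mulVec, ← Units.val_mul, ← map_mul, mul_inv_cancel, map_one, Units.val_one,
        one_mulVec]
    rw [e]
    exact (hpres y _ _).trans (mem_orth.1 hu _ h1)
  let Y : Submodule F Vec :=
    { carrier := {u | u ∈ P ∧ ∀ t ∈ T, (φ t : Matrix ι ι F) *ᵥ u - u ∈ L}
      zero_mem' := ⟨P.zero_mem, fun t _ => by simp⟩
      add_mem' := fun {a b} ha hb => ⟨P.add_mem ha.1 hb.1, fun t ht => by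
        rw [mulVec_add, add_sub_add_comm]; exact L.add_mem (ha.2 t ht) (hb.2 t ht)⟩
      smul_mem' := fun c {a} ha => ⟨P.smul_mem c ha.1, fun t ht => by
        rw [mulVec_smul, ← smul_sub]; exact L.smul_mem c (ha.2 t ht)⟩ }
  have hYinv : ∀ y ∈ Subgroup.normalizer (T : Set Ω), ∀ u ∈ Y,
      (φ y : Matrix ι ι F) *ᵥ u ∈ Y := fun y hy u hu => ⟨hPinv y hy u hu.1, fun t ht => by
    have ht' : y⁻¹ * t * y ∈ T := by
      simpa using (Subgroup.mem_normalizer_iff.1 (inv_mem hy) t).1 ht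
    have h1 := hLinv y hy _ (hu.2 _ ht')
    rw [mulVec_sub, mulVec_mulVec, ← Units.val_mul, ← map_mul,
      show y * (y⁻¹ * t * y) = t * y by group, map_mul, Units.val_mul, ← mulVec_mulVec] at h1
    exact h1⟩
  let Yp := (polB Q).orthogonal Y
  have hYpinv : ∀ y ∈ Subgroup.normalizer (T : Set Ω), ∀ u ∈ Yp,
      (φ y : Matrix ι ι F) *ᵥ u ∈ Yp := fun y hy u hu => mem_orth.2 fun l hl => by
    have h1 := hYinv y⁻¹ (inv_mem hy) l hl
    have e : l = (φ y : Matrix ι ι F) *ᵥ ((φ y⁻¹ : Matrix ι ι F) *ᵥ l) := by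
      rw [mulVec_mulVec, ← Units.val_mul, ← map_mul, mul_inv_cancel, map_one, Units.val_one,
        one_mulVec]
    rw [e]
    exact (hpres y _ _).trans (mem_orth.1 hu _ h1)
  have hvv : B v v = 0 := hWiso v hv v hv
  have hvY : v ∈ Y := ⟨mem_orth.2 fun l hl => by
      obtain ⟨a, rfl⟩ := Submodule.mem_span_singleton.1 hl
      rw [QuadraticMap.polar_smul_left, hvv, smul_zero],
    fun t ht => L.sub_mem (hLinv t (hTN ht) v (Submodule.mem_span_singleton_self v))
      (Submodule.mem_span_singleton_self v)⟩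
  have hLYp : L ≤ Yp := (Submodule.span_singleton_le_iff_mem _ _).2 (mem_orth.2 fun u hu => by
    rw [QuadraticMap.polar_comm]
    exact mem_orth.1 hu.1 v (Submodule.mem_span_singleton_self v))
  have hZ : ∀ u ∈ Y ⊓ Yp, ∀ w ∈ Y ⊓ Yp, B u w = 0 := fun u hu w hw => mem_orth.1 hw.2 u hu.1
  by_cases hs2 : sing (Y ⊓ Yp) hZ = ⊥
  swap
  · exact finish _ hZ (fun y hy u hu => ⟨hYinv y hy u hu.1, hYpinv y hy u hu.2⟩) hs2
  exfalso
  obtain ⟨hZv, -, -⟩ := le_span_of_sing_eq_bot _ hZ hs2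
    ⟨hvY, hLYp (Submodule.mem_span_singleton_self v)⟩ hv0
  have hYp : Yp = L := by
    by_contra h
    obtain ⟨y, hy, hyL, hfix⟩ := Form.exists_fixed hT (Mat.toEquiv.comp φ)
      (lt_of_le_of_ne hLYp (Ne.symm h)) (fun t ht => hLinv t (hTN ht))
      (fun t ht => hYpinv t (hTN ht))
    refine hyL (hZv ⟨⟨mem_orth.2 fun l hl => ?_, hfix⟩, hy⟩)
    obtain ⟨a, rfl⟩ := Submodule.mem_span_singleton.1 hl
    rw [QuadraticMap.polar_smul_left, mem_orth.1 hy v hvY, smul_zero]
  have hYP : Y = P := by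
    refine Submodule.eq_of_le_of_finrank_le (fun u hu => hu.1) ?_
    have h1 : Module.finrank F Yp = 1 := by rw [hYp]; exact finrank_span_singleton hv0
    rw [show Module.finrank F Yp = Fintype.card ι - Module.finrank F Y from finrank_orth hQ Y] at h1
    show Module.finrank F ((polB Q).orthogonal L) ≤ _
    rw [finrank_orth hQ L, show Module.finrank F L = 1 from finrank_span_singleton hv0]
    omega
  have hTfix : ∀ t ∈ T, ∀ u ∈ P, (φ t : Matrix ι ι F) *ᵥ u = u := fun t ht u hu => by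
    obtain ⟨a, ha⟩ := Submodule.mem_span_singleton.1 ((hYP ▸ hu : u ∈ Y).2 t ht)
    rw [eq_sub_iff_add_eq'] at ha
    have h1 := hQinv t u
    rw [← ha, Classical.Orth.map_add', Classical.Orth.map_smul', QuadraticMap.polar_smul_right,
      show B u v = 0 by rw [QuadraticMap.polar_comm]; exact mem_orth.1 hu v (Submodule.mem_span_singleton_self v),
      smul_zero, add_zero] at h1
    have : a * a * Q v = 0 := by linear_combination h1
    rw [mul_eq_zero, mul_self_eq_zero] at this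
    rw [← ha, this.resolve_right hQv, zero_smul, add_zero]
  refine hne ((Subgroup.eq_bot_iff_forall _).2 fun t ht => ?_)
  have hout : ∀ x, (φ t : Matrix ι ι F) *ᵥ x - x ∈ L := fun x => by
    rw [← hYp]
    refine mem_orth.2 fun u hu => ?_
    rw [QuadraticMap.polar_sub_right, sub_eq_zero]
    conv_lhs => rw [← hTfix t ht u hu.1]
    exact hpres t u x
  by_contra hne1
  have hrefl : (t : Iso) = reflect Q v := by
    obtain ⟨x, hx⟩ : ∃ x, (φ t : Matrix ι ι F) *ᵥ x ≠ x := by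
      by_contra h
      push Not at h
      exact hne1 (hinj (Units.ext (Matrix.ext_iff_mulVec.2 fun x => by
        rw [h x, map_one, Units.val_one, one_mulVec])))
    obtain ⟨a, ha⟩ := Submodule.mem_span_singleton.1 (hout x)
    rw [eq_sub_iff_add_eq'] at ha
    have ha0 : a ≠ 0 := fun h => hx (by rw [← ha, h, zero_smul, add_zero])
    have h1 := hQinv t x
    rw [← ha, Classical.Orth.map_add', Classical.Orth.map_smul', QuadraticMap.polar_smul_right, smul_eq_mul] at h1
    have hax : a * Q v + B x v = 0 :=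
      (mul_eq_zero.1 (show a * (a * Q v + B x v) = 0 by linear_combination h1)).resolve_left ha0
    have hxP : B v x ≠ 0 := fun h => by
      rw [QuadraticMap.polar_comm, h, add_zero, mul_eq_zero] at hax
      exact hax.elim ha0 hQv
    refine act_ext fun z => ?_
    rw [act_reflect]
    set k := B v z / B v x
    have hzP : z - k • x ∈ P := mem_orth.2 fun l hl => by
      obtain ⟨b, rfl⟩ := Submodule.mem_span_singleton.1 hl
      simp only [QuadraticMap.polar_smul_left, QuadraticMap.polar_sub_right,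
        QuadraticMap.polar_smul_right, smul_eq_mul, k]
      field_simp
      ring
    have h3 := hTfix t ht _ hzP
    rw [mulVec_sub, mulVec_smul, ← ha] at h3
    have h4 : (φ t : Matrix ι ι F) *ᵥ z = z + (k * a) • v := by
      linear_combination (norm := module) h3
    rw [act_apply]
    show (φ t : Matrix ι ι F) *ᵥ z = _
    have h5 : (Q v)⁻¹ * B v z = -(k * a) := by
      have : B x v = B v x := QuadraticMap.polar_comm _ _ _
      field_simp
      simp only [k]
      field_simp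
      linear_combination B v z * hax - B v z * this
    rw [h4, h5, neg_smul, sub_neg_eq_add]
  have h6 : par (t : Iso) = 1 := par_omega hQ hn t.2
  rw [hrefl, ← mul_one (reflect Q v), par_reflect_mul hQ hQv, par_one] at h6
  exact absurd h6 (by decide)

theorem lc (hQ : (QuadraticMap.polarBilin Q).Nondegenerate) (hn : 5 ≤ Fintype.card ι) :
    LC p (⊥ : Subgroup (Cfsg.POmega F ⇑Q)) := by
  refine cover (QuotientGroup.mk' (Subgroup.center Ω)) (QuotientGroup.mk'_surjective _)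
    (QuotientGroup.ker_mk' _).le ?_
  rw [QuotientGroup.ker_mk']
  exact lc_cover hQ hn

theorem lc_odd (m : ℕ) (hm : 3 ≤ m) (hodd : Odd (Fintype.card F)) :
    LC p (⊥ : Subgroup (Cfsg.POmega F (Cfsg.quadFormOdd m F))) := by
  rw [← Cfsg.Agent.Classical.OrthForms.oddQ_eq]
  exact lc (Classical.OrthForms.oddQ_nondeg (Classical.OrthForms.two_ne_zero_of_odd hodd) m)
    (by simp; omega)

theorem lc_plus (m : ℕ) (hm : 4 ≤ m) :
    LC p (⊥ : Subgroup (Cfsg.POmega F (Cfsg.quadFormPlus m F))) := by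
  rw [← Cfsg.Agent.Classical.OrthForms.plusQ_eq]
  exact lc (PlusStd.plusQ_nondeg F m) (by simp; omega)

theorem lc_minus (m : ℕ) (hm : 4 ≤ m) {a b : F}
    (hab : ∀ z₁ z₂ : F, z₁ ^ 2 + a * z₁ * z₂ + b * z₂ ^ 2 = 0 → z₁ = 0 ∧ z₂ = 0) :
    LC p (⊥ : Subgroup (Cfsg.POmega F (Cfsg.quadFormMinus (m - 1) F a b))) := by
  rw [← Cfsg.Agent.Classical.OrthForms.minQ_eq]
  exact lc (Classical.OrthForms.minQ_nondeg _ hab) (by simp; omega)

end Cfsg.Agent.LieLocalChar.Orth
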