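import Cfsg.Agent.Lib.LieLocalChar.Basic
import Cfsg.Agent.Lib.SylowRigid.RankOne

/-!
# Rank one: Suzuki and Ree groups have local characteristic `p`
-/

set_option autoImplicit false
set_option linter.unusedSectionVars false

namespace Cfsg.Agent.LieLocalChar.RankOne

open Subgroup Cfsg.Agent.SylowRigid

variable {G : Type*} [Group G] {p : ℕ}

/-- A `p'`-element centralising a rigid Sylow subgroup of a nonabelian simple group is trivial. -/
theorem eq_one_of_rigid [Finite G] [Fact p.Prime] [IsSimpleGroup G]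
    (hna : center G = ⊥) {U : Subgroup G} (h : Rigid p U) {x : G}
    (hx : (orderOf x).Coprime p) (hc : ∀ u ∈ U, x * u = u * x) : x = 1 := by
  have h1 : MulAut.conj x = 1 := by
    refine h _ (fun hd => ?_) fun u hu => ?_
    · have hd' := hd.trans (orderOf_map_dvd MulAut.conj x)
      exact (Fact.out : p.Prime).one_lt.ne'
        (Nat.eq_one_of_dvd_coprimes hx hd' dvd_rfl)
    · show x * u * x⁻¹ = u
      rw [hc u hu, mul_inv_cancel_right]
  have : x ∈ center G := mem_center_iff.2 fun g => by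
    have h2 := MulEquiv.congr_fun h1 g
    rw [MulAut.conj_apply, MulAut.one_apply, mul_inv_eq_iff_eq_mul] at h2
    exact h2.symm
  rwa [hna, mem_bot] at this

theorem center_eq_bot [Finite G] [IsSimpleGroup G] [Fact p.Prime] {P : Subgroup G} (hne : P ≠ ⊥)
    {n : G} (hopp : P ⊓ cj n P = ⊥) : center G = ⊥ := by
  refine (inferInstance : (center G).Normal).eq_bot_or_eq_top.resolve_right fun h => hne ?_
  have e : cj n P = P := by
    refine Subgroup.ext fun z => ⟨?_, fun hz => ⟨z, hz, ?_⟩⟩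
    · rintro ⟨y, hy, rfl⟩
      show n * y * n⁻¹ ∈ P
      rwa [← mem_center_iff.1 (h ▸ mem_top n : n ∈ center G) y, mul_inv_cancel_right]
    · show n * z * n⁻¹ = z
      rw [← mem_center_iff.1 (h ▸ mem_top n : n ∈ center G) z, mul_inv_cancel_right]
  rwa [e, inf_idem] at hopp

theorem lc_rank_one [IsSimpleGroup G] [Finite G] [Fact p.Prime] (P : Sylow p G)
    (hne : (P : Subgroup G) ≠ ⊥) (n : G) (hopp : (P : Subgroup G) ⊓ cj n P = ⊥)
    (hcases : ∀ g : G, g ∈ normalizer ((P : Subgroup G) : Set G) ∨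
      ∃ u ∈ (P : Subgroup G), (u * n)⁻¹ * g ∈ normalizer ((P : Subgroup G) : Set G))
    (hrig : ∀ Q : Sylow p G, Rigid p (Q : Subgroup G)) : LC p (⊥ : Subgroup G) := by
  have hpair : ∀ g : G, cj g (P : Subgroup G) ≠ P → (P : Subgroup G) ⊓ cj g P = ⊥ := by
    intro g hg
    rcases hcases g with h | ⟨u, hu, h⟩
    · exact absurd (cj_of_mem_normalizer h) hg
    · have h1 : cj g (P : Subgroup G) = cj (u * n) P := by
        calc cj g (P : Subgroup G) = cj (u * n) (cj ((u * n)⁻¹ * g) P) := by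
              rw [cj_cj, mul_inv_cancel_left]
          _ = _ := by rw [cj_of_mem_normalizer h]
      have := congrArg (cj u) hopp
      rwa [cj_inf, cj_eq_self_of_mem hu, cj_bot, cj_cj, ← h1] at this
  intro T hT hTne
  obtain ⟨R, hR⟩ := hT.exists_le_sylow
  obtain ⟨g, hg⟩ := MulAction.exists_smul_eq G P R
  have hRg : (R : Subgroup G) = cj g P := by
    rw [← hg, Sylow.coe_subgroup_smul, Subgroup.pointwise_smul_def]; rfl
  refine ⟨R, R.2, fun y hy => ?_, fun x _ hxp hc => mem_bot.2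
    (eq_one_of_rigid (p := p) (center_eq_bot (p := p) hne hopp) (hrig R) hxp hc)⟩
  rw [mem_normalizer_iff_map_conj_eq]
  show cj y (R : Subgroup G) = (R : Subgroup G)
  by_contra hne'
  rw [hRg, cj_cj] at hne'
  have h1 := hpair (g⁻¹ * (y * g)) fun e => hne' (by
    have h2 := congrArg (cj g) e
    rwa [cj_cj, mul_inv_cancel_left] at h2)
  have h3 := congrArg (cj g) h1
  rw [cj_inf, cj_bot, cj_cj, mul_inv_cancel_left, ← cj_cj, ← hRg] at h3
  refine hTne (le_bot_iff.1 (h3 ▸ le_inf hR ?_))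
  have hTy : cj y T = T := cj_of_mem_normalizer hy
  conv_lhs => rw [← hTy]
  exact map_mono hR

theorem lc_suzuki {F : Type*} [Field F] [Fintype F] [CharP F 2] {m : ℕ} (hm : 1 ≤ m)
    (hF : Fintype.card F = 2 ^ (2 * m + 1)) : LC 2 (⊥ : Subgroup (Cfsg.Sz F m)) := by
  have : Fact (Nat.Prime 2) := ⟨Nat.prime_two⟩
  have := Suzuki.isSimple hm hF
  obtain ⟨P₀, hP₀⟩ := Suzuki.exists_sylow hm hF
  refine lc_rank_one P₀ ?_ (Suzuki.sw hF) ?_ ?_ (fun Q => rigid_suzuki hm hF Q)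
  · rw [hP₀]
    intro h
    have h1 : Suzuki.tr hF (1 : F) 0 ∈ Suzuki.U (m := m) hF := ⟨1, 0, rfl⟩
    rw [h, mem_bot, ← Suzuki.tr_zero hF] at h1
    exact one_ne_zero (Suzuki.tr_injective hF h1).1
  · rw [hP₀, eq_bot_iff]
    rintro _ ⟨⟨a, b, rfl⟩, x, ⟨c, d, rfl⟩, e⟩
    have h1 := congrArg (fun g : Cfsg.Sz F m => g • Suzuki.point (F := F) m 0 0) e
    simp only [MulEquiv.coe_toMonoidHom, MulAut.conj_apply, mul_smul, Suzuki.sw_inv,
      Suzuki.sw_smul_zero, Suzuki.tr_smul_infty, Suzuki.sw_smul_infty, Suzuki.tr_smul_zero] at h1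
    obtain ⟨rfl, rfl⟩ := Suzuki.point_injective h1.symm
    rw [Suzuki.tr_zero]
    exact one_mem _
  · intro g
    rw [hP₀, Suzuki.normalizer_U hm hF]
    rcases Suzuki.bruhat hm hF g with ⟨a, b, s, rfl⟩ | ⟨a, b, c, d, s, rfl⟩
    · left
      rw [MulAction.mem_stabilizer_iff, mul_smul, Suzuki.tor_smul_infty, Suzuki.tr_smul_infty]
    · right
      refine ⟨_, ⟨a, b, rfl⟩, ?_⟩
      rw [inv_mul_cancel_left, MulAction.mem_stabilizer_iff, mul_smul, Suzuki.tor_smul_infty,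
        Suzuki.tr_smul_infty]

open Cfsg.Agent.Chevalley.Twist.G2 (nn uu bor coset_cases nn_not_bor uu_mem_bor)
open Cfsg.Agent.Ree (UB)

theorem lc_ree {K : Type*} [Field K] [Fintype K] [CharP K 3] {m : ℕ} (hm : 1 ≤ m)
    (hK : Fintype.card K = 3 ^ (2 * m + 1)) :
    LC 3 (⊥ : Subgroup (Cfsg.Lie.twistedG2 K (3 ^ m))) := by
  have : Fact (Nat.Prime 3) := ⟨Nat.prime_three⟩
  obtain ⟨X⟩ := Chevalley.Twist.G2.exists_setup hK
  have := (Chevalley.Twist.G2.isSimple X hm).1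
  obtain ⟨P₀, hP₀⟩ := Ree.exists_sylow X
  refine lc_rank_one P₀ ?_ (nn X) ?_ ?_ (fun Q => rigid_ree hm hK Q)
  · rw [hP₀]
    intro h
    have h1 := Ree.uu_mem X ((1 : K), (0 : K), (0 : K))
    rw [h, mem_bot, ← Ree.uu_zero X] at h1
    exact one_ne_zero (Ree.uu_inj X h1).1
  · rw [hP₀, eq_bot_iff]
    rintro g ⟨hg, x, hx, rfl⟩
    obtain ⟨t, u, v, e⟩ := Ree.mem_UB X hg
    rw [e, mem_bot]
    by_contra hne
    have hp : (t, u, v) ≠ 0 := fun h0 => hne (by rw [h0]; exact Ree.uu_zero X)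
    have hz : uu X (t, u, v) • ((nn X : Cfsg.Lie.twistedG2 K (3 ^ m)) :
        Cfsg.Lie.twistedG2 K (3 ^ m) ⧸ bor X) = (nn X : Cfsg.Lie.twistedG2 K (3 ^ m)) := by
      rw [← e, MulAction.Quotient.smul_coe, smul_eq_mul, QuotientGroup.eq]
      show (nn X * x * (nn X)⁻¹ * nn X)⁻¹ * nn X ∈ bor X
      rw [show (nn X * x * (nn X)⁻¹ * nn X)⁻¹ * nn X = x⁻¹ by group]
      exact inv_mem (Ree.UB_le_bor X hx)
    have h2 := Ree.uu_fix_only_base X hp hz
    rw [QuotientGroup.eq, mul_one, inv_mem_iff] at h2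
    exact nn_not_bor X 0 (mul_mem (uu_mem_bor X 0) h2)
  · intro g
    rw [hP₀]
    have hb : ∀ b ∈ bor X,
        b ∈ normalizer ((UB X : Subgroup (Cfsg.Lie.twistedG2 K (3 ^ m))) : Set _) := by
      intro b hb
      refine mem_normalizer_iff.2 fun x => ⟨fun hx => Ree.bor_conj_mem X hb hx, fun hx => ?_⟩
      have := Ree.bor_conj_mem X (inv_mem hb) hx
      rwa [show b⁻¹ * (b * x * b⁻¹) * b⁻¹⁻¹ = x by group] at this
    rcases coset_cases X (g : Cfsg.Lie.twistedG2 K (3 ^ m) ⧸ bor X) with h | ⟨q, h⟩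
    · left
      rw [QuotientGroup.eq, mul_one, inv_mem_iff] at h
      exact hb g h
    · right
      refine ⟨uu X q, Ree.uu_mem X q, ?_⟩
      rw [eq_comm, QuotientGroup.eq] at h
      exact hb _ h

end Cfsg.Agent.LieLocalChar.RankOne
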