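import Cfsg.Agent.Lib.LieLocalChar.Matrix
import Cfsg.Agent.Lib.Forms.Max.Symp

/-!
# `PSp` has local characteristic `p`
-/

set_option autoImplicit false
set_option linter.unusedSectionVars false

namespace Cfsg.Agent.LieLocalChar.Symp

open Matrix Cfsg Cfsg.Agent.Forms.SympStd Cfsg.Agent.Forms.Max.Symp Cfsg.Agent.Aschbacher

variable {F : Type*} [Field F] {m : ℕ}

local notation "Vec" => (Fin m ⊕ Fin m → F)
local notation "Sp" => Matrix.symplecticGroup (Fin m) F
local notation "GLm" => GL (Fin m ⊕ Fin m) F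
local notation "B" => sympB m F

/-- the symplectic form as a pairing -/
noncomputable def pairing (m : ℕ) (F : Type*) [Field F] : Form.Pairing F (Fin m ⊕ Fin m → F) where
  f u v := sympB m F u v
  τ := id
  add_left u v w := by simp
  smul_left c v w := by simp
  add_right u v w := by simp
  smul_right c v w := by simp
  refl v w h := Forms.Max.Symp.isRefl v w h
  nondeg v h := Forms.Max.Symp.nondeg.1 v h
  τ_surj c := ⟨c, rfl⟩

/-- the inclusion in `GL` -/
noncomputable def incl : Sp →* GLm := (Sp).subtype.toHomUnits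

theorem incl_val (A : Sp) : ((incl A : GLm) : Matrix (Fin m ⊕ Fin m) (Fin m ⊕ Fin m) F) = (A : Matrix (Fin m ⊕ Fin m) (Fin m ⊕ Fin m) F) := rfl

theorem lc_cover [Finite F] {p : ℕ} [Fact p.Prime] [CharP F p] (hm : 2 ≤ m) :
    LC p (Subgroup.center Sp) := by
  have hinj : Function.Injective (incl : Sp → GLm) := fun a b h =>
    Subtype.ext (congrArg Units.val h :)
  have hpres : ∀ (y : Sp) (u v : Vec), (pairing m F).f ((incl y : Matrix (Fin m ⊕ Fin m) (Fin m ⊕ Fin m) F) *ᵥ u)
      ((incl y : Matrix (Fin m ⊕ Fin m) (Fin m ⊕ Fin m) F) *ᵥ v) = (pairing m F).f u v := fun y u v => by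
    show B _ _ = B u v
    rw [incl_val, sympB_apply, sympB_apply, sympForm_mulVec]
  refine Mat.lc (pairing m F) (Cfsg.spGL m F) (fun g hg => mem_spGL_iff.1 hg) incl hinj
    (fun y => mem_spGL_iff.2 (hpres y)) (fun a ha y => ?_) (by simp; omega) one_ne_zero
    (fun _ => True) (fun w _ _ u hu => ?_) (fun w _ _ _ => ?_) (fun T hT hne => ?_)
  · have h : a * incl y * a⁻¹ ∈ Cfsg.spGL m F :=
      mul_mem (mul_mem ha (mem_spGL_iff.2 (hpres y))) (inv_mem ha)
    exact ⟨⟨_, mem_sp_iff.2 fun u v => h u v⟩, Units.ext rfl⟩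
  · obtain ⟨g, hg, hgx⟩ := exists_siegel w u (Forms.Max.Symp.isRefl _ _ hu)
    exact ⟨g, hg, fun v => B v u, hgx, fun v _ => (one_mul _).symm⟩
  · exact ⟨spTrv w 1, spTrv_mem w 1, 1, one_ne_zero, fun v => spTrv_apply w 1 v⟩
  · obtain ⟨W, h1, h2, h3⟩ := Mat.fixRad_spec (pairing m F) incl hinj hpres T hT hne
    exact ⟨W, h1, h2, fun _ _ => trivial, h3⟩

theorem lc [Finite F] {p : ℕ} [Fact p.Prime] [CharP F p] (hm : 2 ≤ m) :
    LC p (⊥ : Subgroup (PSp m F)) := by
  refine cover (QuotientGroup.mk' (Subgroup.center Sp)) (QuotientGroup.mk'_surjective _)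
    (QuotientGroup.ker_mk' _).le ?_
  rw [QuotientGroup.ker_mk']
  exact lc_cover hm

end Cfsg.Agent.LieLocalChar.Symp
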