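import Cfsg.Agent.Lib.LieLocalChar.TwistLC
import Cfsg.Agent.Lib.LieLocalChar.RankOne
import Cfsg.Agent.Lib.SylowRigid.TwistedExc
import Cfsg.Agent.Lib.Chevalley.Types.CoefAll

/-!
# The twisted exceptional groups have local characteristic `p`
-/

set_option autoImplicit false

namespace Cfsg.Agent.LieLocalChar.TwistExc

open Cfsg.Lie Cfsg.Agent.Chevalley Cfsg.Agent.Chevalley.Table Cfsg.Agent.Chevalley.Cert
  Cfsg.Agent.Chevalley.Twist Cfsg.Agent.LieLocalChar.TwistForm Cfsg.Agent.LieLocalChar.TwistLC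

theorem cmp_E6 : ∀ i < 6, ∀ r < 72,
    Data.E6.tab.A (nodePi Twist.E6.L i) (Types.GAut.tabE6.ρ r) = Data.E6.tab.A i r := by
  decide +kernel

theorem cmp_D4 : ∀ i < 4, ∀ r < 24,
    Data.D4.tab.A (nodePi Twist.D4.L i) (Types.GAut.tabD4a.ρ r) = Data.D4.tab.A i r := by
  decide +kernel

theorem cmp_F4 : ∀ i < 4, ∀ r < 48,
    Data.F4.tab.A (nodePi Twist.F4.L i) (Types.GAut.tabF4.ρ r) *
      (Types.GAut.tabF4.e (Data.F4.tab.simple i) : ℤ) =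
    (Types.GAut.tabF4.e r : ℤ) * Data.F4.tab.A i r := by
  decide +kernel

theorem refl_F4 : ∀ i < 4, ∀ r < 48,
    Types.GAut.tabF4.e (Data.F4.tab.refl i r) = Types.GAut.tabF4.e r := by decide +kernel

theorem e_F4 : (∀ r < 48, 0 < Types.GAut.tabF4.e r) ∧ ∀ i < 4,
    Types.GAut.tabF4.e (Data.F4.tab.simple i) = [2, 2, 1, 1].getD i 0 ∧
    nodePi Twist.F4.L i = 3 - i := by decide +kernel

theorem path_E6 : ∀ a < 4, ∀ b < 4, a ≠ b → ∃ w ∈ ([[], [1], [2], [1, 2], [2, 1]] : List (List ℕ)),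
    (∀ c ∈ w, c < 4) ∧ pathChk Data.E6.tab Twist.E6.Js a b w = true := by
  decide +kernel

theorem path_D4 : ∀ a < 2, ∀ b < 2, a ≠ b →
    pathChk Data.D4.tab Twist.D4.Js a b [] = true := by
  decide +kernel

theorem path_F4 : ∀ a < 2, ∀ b < 2, a ≠ b →
    pathChk Data.F4.tab Twist.F4.Js a b [] = true := by
  decide +kernel

theorem center_eq_bot {G : Type*} [Group G] [IsSimpleGroup G] (h : ¬ IsMulCommutative G) :
    Subgroup.center G = ⊥ :=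
  (inferInstance : (Subgroup.center G).Normal).eq_bot_or_eq_top.resolve_right fun h' =>
    h ⟨⟨fun a b => (Subgroup.mem_center_iff.1 (h' ▸ Subgroup.mem_top b) a)⟩⟩

variable {F : Type*} [Field F] [Fintype F] {p : ℕ} [Fact p.Prime]

theorem exists_sylow_E6 [CharP F p] {q : ℕ} {hF : Fintype.card F = q ^ 2} (X : Twist.E6.Setup (K := F) hF)
    (hq : IsPrimePow q) :
    ∃ P : Sylow p ↥(twistedE6 F q), (P : Subgroup ↥(twistedE6 F q)) = UK chevE6 (twistedE6 F q) := by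
  classical
  obtain ⟨f, hf, hqp⟩ := SylowRigid.TwistedExc.exists_pow (p := p) hq two_ne_zero hF
  have hpq : p ∣ q := hqp ▸ dvd_pow_self p hf
  have hpk : ∀ k : ℕ, k ≠ 0 → p ∣ q ^ k := fun k hk => dvd_pow hpq hk
  have h1 : ∀ k : ℕ, 1 ≤ q ^ k := fun k => Nat.one_le_pow _ _ hq.pos
  set M := (q ^ 2 - 1) * (q ^ 5 + 1) * (q ^ 6 - 1) * (q ^ 8 - 1) * (q ^ 9 + 1) * (q ^ 12 - 1)
    with hMdef
  have hM : ¬ p ∣ M := by
    simp only [hMdef, (Fact.out : p.Prime).dvd_mul, not_or]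
    exact ⟨⟨⟨⟨⟨SylowRigid.TwistedExc.not_dvd_pred (hpk 2 (by decide)) (h1 2), SylowRigid.TwistedExc.not_dvd_succ (hpk 5 (by decide))⟩,
      SylowRigid.TwistedExc.not_dvd_pred (hpk 6 (by decide)) (h1 6)⟩, SylowRigid.TwistedExc.not_dvd_pred (hpk 8 (by decide)) (h1 8)⟩,
      SylowRigid.TwistedExc.not_dvd_succ (hpk 9 (by decide))⟩, SylowRigid.TwistedExc.not_dvd_pred (hpk 12 (by decide)) (h1 12)⟩
  have hcard : Nat.gcd 3 (q + 1) * Nat.card (Cfsg.Lie.twistedE6 F q) = q ^ 36 * M := by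
    rw [Twist.E6.card_group X hq]; simp only [hMdef]; ring
  have hcop : Nat.Coprime (Nat.gcd 3 (q + 1)) (q ^ 36) :=
    ((show Nat.Coprime (q + 1) q by simp).coprime_dvd_left (Nat.gcd_dvd_right _ _)).pow_right _
  obtain ⟨M', hM'⟩ : Nat.gcd 3 (q + 1) ∣ M := hcop.dvd_of_dvd_mul_left ⟨_, hcard.symm⟩
  have hd : 0 < Nat.gcd 3 (q + 1) := Nat.gcd_pos_of_pos_left _ (by norm_num)
  exact Twist.exists_sylow_UK (D := chevE6) (K := Cfsg.Lie.twistedE6 F q) p (f * 36) M'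
    (by rw [Twist.E6.card_U X hq, hqp, ← pow_mul])
    (Nat.eq_of_mul_eq_mul_left hd (by rw [hcard, hM', pow_mul, ← hqp]; ring))
    (fun h => hM (hM' ▸ h.mul_left _))

theorem exists_sylow_D4 [CharP F p] {q : ℕ} {hF : Fintype.card F = q ^ 3} (X : Twist.D4.Setup (K := F) hF)
    (hq : IsPrimePow q) :
    ∃ P : Sylow p ↥(twistedD4 F q), (P : Subgroup ↥(twistedD4 F q)) = UK chevD4 (twistedD4 F q) := by
  classical
  obtain ⟨f, hf, hqp⟩ := SylowRigid.TwistedExc.exists_pow (p := p) hq three_ne_zero hF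
  have hpq : p ∣ q := hqp ▸ dvd_pow_self p hf
  have hpk : ∀ k : ℕ, k ≠ 0 → p ∣ q ^ k := fun k hk => dvd_pow hpq hk
  have h1 : ∀ k : ℕ, 1 ≤ q ^ k := fun k => Nat.one_le_pow _ _ hq.pos
  have hM : ¬ p ∣ (q ^ 2 - 1) * (q ^ 6 - 1) * (q ^ 8 + q ^ 4 + 1) := by
    simp only [(Fact.out : p.Prime).dvd_mul, not_or]
    exact ⟨⟨SylowRigid.TwistedExc.not_dvd_pred (hpk 2 (by decide)) (h1 2), SylowRigid.TwistedExc.not_dvd_pred (hpk 6 (by decide)) (h1 6)⟩,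
      SylowRigid.TwistedExc.not_dvd_succ (dvd_add (hpk 8 (by decide)) (hpk 4 (by decide)))⟩
  exact Twist.exists_sylow_UK (D := chevD4) (K := Cfsg.Lie.twistedD4 F q) p (f * 12)
    ((q ^ 2 - 1) * (q ^ 6 - 1) * (q ^ 8 + q ^ 4 + 1))
    (by rw [Twist.D4.card_U X hq, hqp, ← pow_mul])
    (by rw [Twist.D4.card_group X hq, pow_mul, ← hqp]; ring) hM

theorem exists_sylow_F4 [CharP F 2] [Fact (Nat.Prime 2)] {m : ℕ} {hF : Fintype.card F = 2 ^ (2 * m + 1)}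
    (X : Twist.F4.Setup (K := F) hF) :
    ∃ P : Sylow 2 ↥(twistedF4 F (2 ^ m)), (P : Subgroup ↥(twistedF4 F (2 ^ m))) = UK chevF4 (twistedF4 F (2 ^ m)) := by
  classical
  set r := 2 ^ (2 * m + 1) with hr
  have hpr : 2 ∣ r := dvd_pow_self 2 (by omega)
  have h1 : ∀ k : ℕ, 1 ≤ r ^ k := fun k => Nat.one_le_pow _ _ (Nat.two_pow_pos _)
  have hM : ¬ 2 ∣ (r - 1) * (r ^ 3 + 1) * (r ^ 4 - 1) * (r ^ 6 + 1) := by
    simp only [Nat.prime_two.dvd_mul, not_or]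
    exact ⟨⟨⟨SylowRigid.TwistedExc.not_dvd_pred hpr Nat.one_le_two_pow, SylowRigid.TwistedExc.not_dvd_succ (dvd_pow hpr (by decide))⟩,
      SylowRigid.TwistedExc.not_dvd_pred (dvd_pow hpr (by decide)) (h1 4)⟩, SylowRigid.TwistedExc.not_dvd_succ (dvd_pow hpr (by decide))⟩
  exact Twist.exists_sylow_UK (D := chevF4) (K := Cfsg.Lie.twistedF4 F (2 ^ m)) 2
    ((2 * m + 1) * 12) _
    (by rw [Twist.F4.card_U X, ← pow_mul])
    (by rw [Twist.F4.card_group X, ← hr, pow_mul, ← hr]; ring) hM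

theorem lc_2E6 [CharP F p] {q : ℕ} (hq : IsPrimePow q) (hF : Fintype.card F = q ^ 2) :
    LC p (⊥ : Subgroup ↥(twistedE6 F q)) := by
  classical
  obtain ⟨X⟩ := Twist.E6.exists_setup hq hF
  obtain ⟨hsim, hnc⟩ := Twist.E6.isSimple X hq
  have hn : chevE6.nroots = 72 := by decide +kernel
  have hc : Compat X.S (fun _ => 1) 1 := by
    refine ⟨one_pos, fun _ _ => one_pos, fun _ _ _ _ => rfl, fun i hi r hr => ?_⟩
    have h1 := Twist.E6.hC.linked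
    rw [Nat.cast_one, mul_one, one_mul, ← h1.A_eq i hi r hr,
      ← h1.A_eq _ (X.S.π_lt i hi) _ (X.S.ρ_lt r hr), X.π_eq, X.ρ_eq]
    exact cmp_E6 i hi r (hn ▸ hr)
  obtain ⟨f₀, hf₀, hv⟩ := exists_wt Twist.E6.adj 3 (by decide) Twist.E6.adj_ok fun _ => 1
  have hi₀ : Invariant X.S (fun _ => 1) 1 f₀ := Invariant.of_simple hc hf₀ fun i hi => by
    rw [hv _ (X.S.π_lt i hi), hv i hi]; norm_num
  obtain ⟨P₀, hP₀⟩ : ∃ P : Sylow p ↥(twistedE6 F q),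
      (P : Subgroup ↥(twistedE6 F q)) = UK chevE6 (twistedE6 F q) := exists_sylow_E6 X hq
  refine TwistLC.lc X.O X.gen (Twist.E6.hne X) Types.CoefE6.coef_ok hc hf₀ hi₀
    (fun i hi => (hv i hi).ge) P₀ hP₀ (fun a ha b hb hab => ?_) fun x _ hx hu => ?_
  · obtain ⟨w, -, hw, h⟩ := path_E6 a (X.k_eq ▸ ha) b (X.k_eq ▸ hb) hab
    exact ⟨w, fun c hc' => X.k_eq ▸ hw c hc', pathOK_of_chk X.O X.J_eq ha hb
      (fun c hc' => X.k_eq ▸ hw c hc') h⟩
  · exact RankOne.eq_one_of_rigid (center_eq_bot hnc) (SylowRigid.TwistedExc.twistedE6 hq hF P₀) hx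
      fun u hu' => hu u (hP₀ ▸ hu')

theorem lc_3D4 [CharP F p] {q : ℕ} (hq : IsPrimePow q) (hF : Fintype.card F = q ^ 3) :
    LC p (⊥ : Subgroup ↥(twistedD4 F q)) := by
  classical
  obtain ⟨X⟩ := Twist.D4.exists_setup hq hF
  obtain ⟨hsim, hnc⟩ := Twist.D4.isSimple X hq
  have hn : chevD4.nroots = 24 := by decide +kernel
  have hc : Compat X.S (fun _ => 1) 1 := by
    refine ⟨one_pos, fun _ _ => one_pos, fun _ _ _ _ => rfl, fun i hi r hr => ?_⟩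
    have h1 := Twist.D4.hC.linked
    rw [Nat.cast_one, mul_one, one_mul, ← h1.A_eq i hi r hr,
      ← h1.A_eq _ (X.S.π_lt i hi) _ (X.S.ρ_lt r hr), X.π_eq, X.ρ_eq]
    exact cmp_D4 i hi r (hn ▸ hr)
  obtain ⟨f₀, hf₀, hv⟩ := exists_wt Twist.D4.adj 2 (by decide) Twist.D4.adj_ok fun _ => 1
  have hi₀ : Invariant X.S (fun _ => 1) 1 f₀ := Invariant.of_simple hc hf₀ fun i hi => by
    rw [hv _ (X.S.π_lt i hi), hv i hi]; norm_num
  obtain ⟨P₀, hP₀⟩ : ∃ P : Sylow p ↥(twistedD4 F q),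
      (P : Subgroup ↥(twistedD4 F q)) = UK chevD4 (twistedD4 F q) := exists_sylow_D4 X hq
  refine TwistLC.lc X.O X.gen (Twist.D4.hne X) Types.CoefD4.coef_ok hc hf₀ hi₀
    (fun i hi => (hv i hi).ge) P₀ hP₀ (fun a ha b hb hab => ?_) fun x _ hx hu => ?_
  · exact ⟨[], by simp, pathOK_of_chk X.O X.J_eq ha hb (by simp)
      (path_D4 a (X.k_eq ▸ ha) b (X.k_eq ▸ hb) hab)⟩
  · exact RankOne.eq_one_of_rigid (center_eq_bot hnc) (SylowRigid.TwistedExc.twistedD4 hq hF P₀) hx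
      fun u hu' => hu u (hP₀ ▸ hu')

theorem lc_2F4 [CharP F 2] {m : ℕ} (hF : Fintype.card F = 2 ^ (2 * m + 1)) :
    LC 2 (⊥ : Subgroup ↥(twistedF4 F (2 ^ m))) := by
  classical
  haveI : Fact (Nat.Prime 2) := ⟨Nat.prime_two⟩
  obtain ⟨X⟩ := Twist.F4.exists_setup hF
  have hn : chevF4.nroots = 48 := by decide +kernel
  have hrank : chevF4.rank = 4 := rfl
  have hs2 : (0 : ℝ) < Real.sqrt 2 := by positivity
  have hc : Compat X.S Types.GAut.tabF4.e (Real.sqrt 2 / 2) := by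
    have h1 := Twist.F4.hC.linked
    refine ⟨by positivity, fun r hr => e_F4.1 r (hn ▸ hr), fun i hi r hr => ?_, fun i hi r hr => ?_⟩
    · rw [Twist.F4.hC.reflect_eq hi hr]
      exact refl_F4 i hi r (hn ▸ hr)
    · rw [← h1.A_eq i hi r hr, ← h1.A_eq _ (X.S.π_lt i hi) _ (X.S.ρ_lt r hr), X.π_eq, X.ρ_eq,
        ← Twist.F4.hC.simple_eq hi]
      exact cmp_F4 i hi r (hn ▸ hr)
  obtain ⟨f₀, hf₀, hv⟩ := exists_wt Twist.F4.adj 1 one_ne_zero Twist.F4.adj_ok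
    fun i => if i < 2 then 1 else Real.sqrt 2
  have hi₀ : Invariant X.S Types.GAut.tabF4.e (Real.sqrt 2 / 2) f₀ :=
    Invariant.of_simple hc hf₀ fun i hi => by
      obtain ⟨he, hπ⟩ := e_F4.2 i hi
      rw [hv _ (X.S.π_lt i hi), hv i hi, X.π_eq, hπ, ← Twist.F4.hC.simple_eq hi, he]
      rw [hrank] at hi
      have h2 : Real.sqrt 2 * Real.sqrt 2 = 2 := Real.mul_self_sqrt zero_le_two
      interval_cases i <;> norm_num <;> linarith
  have hs₀ : ∀ i < chevF4.rank, (1 : ℝ) ≤ f₀ (chevF4.simple i) := fun i hi => by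
    rw [hv i hi]
    split_ifs
    · exact le_rfl
    · exact Real.one_le_sqrt.2 one_le_two
  obtain ⟨P₀, hP₀⟩ : ∃ P : Sylow 2 ↥(twistedF4 F (2 ^ m)),
      (P : Subgroup ↥(twistedF4 F (2 ^ m))) = UK chevF4 (twistedF4 F (2 ^ m)) := exists_sylow_F4 X
  refine TwistLC.lc X.O X.gen (Twist.F4.hne X) Types.CoefF4.coef_ok hc hf₀ hi₀
    hs₀ P₀ hP₀ (fun a ha b hb hab => ?_) fun x hxB hx hu => ?_
  · exact ⟨[], by simp, pathOK_of_chk X.O X.J_eq ha hb (by simp)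
      (path_F4 a (X.k_eq ▸ ha) b (X.k_eq ▸ hb) hab)⟩
  rcases Nat.eq_zero_or_pos m with hm | hm
  · -- over two elements the torus is trivial
    obtain ⟨u, hu', h, hh, e⟩ := (Cfsg.Agent.Chevalley.Borel.mem_B_iff Twist.F4.hC).1 hxB
    obtain ⟨c, rfl⟩ := (Cfsg.Agent.Chevalley.Group.mem_H_iff Twist.F4.hC).1 hh
    have hc1 : c = 1 := funext fun i => by
      have : Fintype.card Fˣ = 1 := by rw [Fintype.card_units, hF, hm]; rfl
      exact (Fintype.card_le_one_iff.1 this.le) _ _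
    rw [hc1, Cfsg.Agent.Chevalley.Group.tor_one, mul_one] at e
    have hxU : x ∈ (P₀ : Subgroup ↥(twistedF4 F (2 ^ m))) := by
      rw [hP₀, Subgroup.mem_subgroupOf, e]; exact hu'
    obtain ⟨k, hk⟩ := P₀.2 ⟨x, hxU⟩
    exact eq_one_of_pow_eq_one (hx.pow_right k) (pow_orderOf_eq_one x)
      (congrArg Subtype.val hk)
  · obtain ⟨hsim, hnc⟩ := Twist.F4.isSimple X hm
    exact RankOne.eq_one_of_rigid (center_eq_bot hnc) (SylowRigid.TwistedExc.twistedF4 hF P₀) hx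
      fun u hu' => hu u (hP₀ ▸ hu')

end Cfsg.Agent.LieLocalChar.TwistExc
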