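import Cfsg.Agent.Lib.LieLocalChar.Matrix
import Cfsg.Agent.Lib.Forms.Max.UnitaryBase

/-!
# `PSU` has local characteristic `p`
-/

set_option autoImplicit false
set_option linter.unusedSectionVars false

namespace Cfsg.Agent.LieLocalChar.Unitary

open Matrix Cfsg.Agent.Classical.Unitary Cfsg.Agent.Forms

variable {F : Type*} [Field F] [Fintype F] {q n : ℕ} (hF : Fintype.card F = q ^ 2)

local notation "Vec" => (Fin n → F)
local notation "SUn" => Cfsg.SU n F q
local notation "H" => Cfsg.hermForm n F q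

/-- the hermitian form as a pairing -/
noncomputable def pairing : Form.Pairing F (Fin n → F) where
  f u v := H u v
  τ c := c ^ q
  add_left := H_add_left
  smul_left := H_smul_left
  add_right := H_add_right hF
  smul_right := H_smul_right
  refl v w h := (H_eq_zero_comm hF).1 h
  nondeg v h := eq_zero_of_H hF h
  τ_surj c := ⟨c ^ q, pow_qq hF c⟩

/-- the inclusion in `GL` -/
noncomputable def incl : SUn →* GL (Fin n) F :=
  Matrix.SpecialLinearGroup.toGL.comp (SUn).subtype

theorem lc_cover {p : ℕ} [Fact p.Prime] [CharP F p] (hF : Fintype.card F = q ^ 2) (hn : 3 ≤ n) :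
    LC p (Subgroup.center SUn) := by
  have hinj : Function.Injective (incl : SUn → GL (Fin n) F) := fun a b h =>
    Subtype.ext (Subtype.ext (congrArg Units.val h :))
  have hpres : ∀ (y : SUn) (u v : Vec), (pairing hF).f ((incl y : Matrix (Fin n) (Fin n) F) *ᵥ u)
      ((incl y : Matrix (Fin n) (Fin n) F) *ᵥ v) = (pairing hF).f u v := fun y => y.2
  refine Mat.lc (pairing hF) (Cfsg.GU n F q) (fun g hg => hg) incl hinj (fun y => y.2)
    (fun a ha y => ?_) (by simpa using hn) (ε := (-1 : F)) (by simp)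
    (fun w => H w w = 0) (fun w _ hww u hu => ?_) (fun w hww _ _ => ?_) (fun T hT hne => ?_)
  · have hdet : (((a * incl y * a⁻¹ : GL (Fin n) F)) : Matrix (Fin n) (Fin n) F).det = 1 := by
      have h1 : Matrix.GeneralLinearGroup.det (a * incl y * a⁻¹) = 1 := by
        have h2 : Matrix.GeneralLinearGroup.det (incl y) = 1 := Units.ext y.1.2
        rw [map_mul, map_mul, h2, mul_one, map_inv, mul_inv_cancel]
      exact congrArg Units.val h1
    have h : a * incl y * a⁻¹ ∈ Cfsg.GU n F q := mul_mem (mul_mem ha y.2) (inv_mem ha)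
    exact ⟨⟨⟨_, hdet⟩, h⟩, Units.ext rfl⟩
  · obtain ⟨β, hβ⟩ := Max.Unitary.exists_trace_add hF u
    obtain ⟨g, hg, hgx⟩ := Max.Unitary.exists_siegel hF hww ((H_eq_zero_comm hF).1 hu) hβ
    refine ⟨g, hg.1, fun v => - H v u + β * H v w, hgx, fun v hv => ?_⟩
    show - H v u + β * H v w = -1 * H v u
    rw [show H v w = 0 from hv, mul_zero, add_zero, neg_one_mul]
  · obtain ⟨t, ht0, ht⟩ := exists_traceZero hF (F := F) (q := q)
    obtain ⟨g, hg, hgx⟩ := Max.Unitary.exists_tv hF hww ht
    exact ⟨g, hg.1, t, ht0, hgx⟩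
  · obtain ⟨W, h1, h2, h3⟩ := Mat.fixRad_spec (pairing hF) incl hinj hpres T hT hne
    exact ⟨W, h1, h2, fun w hw => h2 w hw w hw, h3⟩

theorem lc {p : ℕ} [Fact p.Prime] [CharP F p] (hF : Fintype.card F = q ^ 2) (hn : 3 ≤ n) :
    LC p (⊥ : Subgroup (Cfsg.PSU n F q)) := by
  refine cover (QuotientGroup.mk' (Subgroup.center SUn)) (QuotientGroup.mk'_surjective _)
    (QuotientGroup.ker_mk' _).le ?_
  rw [QuotientGroup.ker_mk']
  exact lc_cover hF hn

end Cfsg.Agent.LieLocalChar.Unitary
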