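import Cfsg.Prelude.Def_LieTypeChar
import Cfsg.Agent.Lib.LieLocalChar.Symp
import Cfsg.Agent.Lib.LieLocalChar.Unitary
import Cfsg.Agent.Lib.LieLocalChar.Orth
import Cfsg.Agent.Lib.LieLocalChar.Linear
import Cfsg.Agent.Lib.LieLocalChar.Exceptional
import Cfsg.Agent.Lib.LieLocalChar.RankOne
import Cfsg.Agent.Lib.LieLocalChar.TwistExc
import Cfsg.Agent.Lib.Suzuki.LieEquiv
import Cfsg.Agent.Lib.CharP.CharP

/-!
# Groups of Lie type have local characteristic equal to the defining one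
-/

set_option autoImplicit false

namespace Cfsg.Agent.LieLocalChar

open Subgroup

variable {G : Type*} [Group G] [Finite G]

theorem of_isLieTypeChar {p : ℕ} [Fact p.Prime] (hG : Cfsg.IsLieTypeChar p G) :
    LC p (⊥ : Subgroup G) := by
  classical
  rcases hG with ⟨F, _, _, _, n, hn, -, ⟨e⟩⟩ | ⟨F, _, _, _, m, hm, -, ⟨e⟩⟩ |
    ⟨F, _, _, _, n, q, hF, hn, -, ⟨e⟩⟩ | ⟨F, _, _, _, m, hm, hodd, ⟨e⟩⟩ |
    ⟨F, _, _, _, m, hm, ⟨e⟩⟩ | ⟨F, _, _, _, m, a, b, hm, hab, ⟨e⟩⟩ |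
    ⟨F, _, _, _, h⟩ | ⟨F, _, _, _, q, hq, h⟩ | ⟨rfl, h⟩ | ⟨rfl, h⟩ | ⟨rfl, h⟩
  · exact transfer e (Linear.lc hn)
  · exact transfer e (Symp.lc hm)
  · exact transfer e (Unitary.lc hF hn)
  · exact transfer e (Orth.lc_odd m hm hodd)
  · exact transfer e (Orth.lc_plus m hm)
  · exact transfer e (Orth.lc_minus m hm hab)
  · rcases h with ⟨-, ⟨e⟩⟩ | ⟨⟨e⟩⟩ | ⟨⟨e⟩⟩ | ⟨⟨e⟩⟩ | ⟨⟨e⟩⟩
    · exact transfer e Exceptional.lc_G2
    · exact transfer e Exceptional.lc_F4
    · exact transfer e Exceptional.lc_E6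
    · exact transfer e Exceptional.lc_E7
    · exact transfer e Exceptional.lc_E8
  · rcases h with ⟨hF, ⟨e⟩⟩ | ⟨hF, ⟨e⟩⟩
    · exact transfer e (TwistExc.lc_2E6 hq hF)
    · exact transfer e (TwistExc.lc_3D4 hq hF)
  · obtain ⟨F, _, _, m, hm, hF, ⟨e⟩⟩ := h
    haveI := Suzuki.charTwo hF
    obtain ⟨e'⟩ := Suzuki.lieEquiv (F := F) hm hF
    exact transfer (e.trans e'.symm) (RankOne.lc_suzuki hm hF)
  · obtain ⟨F, _, _, m, -, hF, ⟨e⟩⟩ := h
    haveI := Suzuki.charTwo hF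
    exact transfer e (TwistExc.lc_2F4 hF)
  · obtain ⟨K, _, _, m, hm, hK, ⟨e⟩⟩ := h
    haveI := Cfsg.Agent.Chevalley.Twist.G2.charThree hK
    exact transfer e (RankOne.lc_ree hm hK)

theorem lc_tits : LC 2 (⊥ : Subgroup Cfsg.Lie.TitsGroup) := by
  haveI : Fact (Nat.Prime 2) := ⟨Nat.prime_two⟩
  exact of_normal (commutator _) (TwistExc.lc_2F4 (F := ZMod 2) (m := 0) (by simp))

theorem lc_G2_derived {F : Type*} [Field F] [Fintype F] [CharP F 2] :
    LC 2 (⊥ : Subgroup ↥(commutator ↥(Cfsg.Lie.chevG2.group F))) := by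
  haveI : Fact (Nat.Prime 2) := ⟨Nat.prime_two⟩
  exact of_normal (commutator _) Exceptional.lc_G2

/-- Centralisers of elements of order `p` are of characteristic `p`. -/
theorem centralizer_pCore_le_centralizer {p : ℕ} [Fact p.Prime] (h : LC p (⊥ : Subgroup G))
    {x : G} (hx : orderOf x = p) (hp2 : p = 2) :
    centralizer (Cfsg.pCore p ↥(centralizer ({x} : Set G)) : Set ↥(centralizer ({x} : Set G))) ≤
      Cfsg.pCore p ↥(centralizer ({x} : Set G)) := by
  subst hp2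
  have hT : IsPGroup 2 (zpowers x) := IsPGroup.of_card (n := 1) (by rw [Nat.card_zpowers, hx, pow_one])
  have hne : zpowers x ≠ ⊥ := fun e => by
    rw [zpowers_eq_bot] at e
    simp [e] at hx
  have e : normalizer (zpowers x : Set G) = centralizer ({x} : Set G) := by
    have hx1 : x ≠ 1 := fun e => by simp [e] at hx
    refine le_antisymm (fun g hg => ?_) fun g hg => ?_
    · obtain ⟨j, hj⟩ := mem_zpowers_iff.1 ((mem_normalizer_iff.1 hg x).1 (mem_zpowers x))
      have hxx : x ^ (2 : ℤ) = 1 := by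
        rw [zpow_ofNat, ← hx, pow_orderOf_eq_one]
      rw [mem_centralizer_singleton_iff]
      rcases Int.even_or_odd j with ⟨i, rfl⟩ | ⟨i, rfl⟩
      · rw [← two_mul, zpow_mul, hxx, one_zpow] at hj
        exact absurd (conj_eq_one_iff.1 hj.symm) hx1
      · rw [zpow_add, zpow_mul, hxx, one_zpow, one_mul, zpow_one] at hj
        exact (mul_inv_eq_iff_eq_mul.1 hj.symm).symm.symm
    · refine mem_normalizer_iff.2 fun y => ?_
      have hgc : Commute g x := mem_centralizer_singleton_iff.1 hg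
      constructor
      · intro hy
        obtain ⟨j, rfl⟩ := mem_zpowers_iff.1 hy
        rw [(hgc.zpow_right j).eq, mul_inv_cancel_right]
        exact hy
      · intro hy
        obtain ⟨j, hj⟩ := mem_zpowers_iff.1 hy
        rw [show y = g⁻¹ * x ^ j * g by rw [hj]; group, mul_assoc, ← (hgc.zpow_right j).eq,
          inv_mul_cancel_left]
        exact zpow_mem_zpowers x j
  rw [← e]
  exact centralizer_pCore_le h hT hne

theorem pPrimeCore_eq_bot {p : ℕ} [Fact p.Prime]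
    (h : centralizer (Cfsg.pCore p G : Set G) ≤ Cfsg.pCore p G) : Cfsg.pPrimeCore p G = ⊥ := by
  rw [← le_bot_iff, ← Cfsg.Agent.Cores.pCore_inf_pPrimeCore (G := G) p]
  refine le_inf (le_trans ?_ h) le_rfl
  rw [← Subgroup.commutator_eq_bot_iff_le_centralizer, Subgroup.commutator_comm]
  exact Subgroup.commutator_eq_bot_of_disjoint
    (disjoint_iff.2 (Cfsg.Agent.Cores.pCore_inf_pPrimeCore p))

theorem not_isComponent {p : ℕ} [Fact p.Prime]
    (h : centralizer (Cfsg.pCore p G : Set G) ≤ Cfsg.pCore p G) (K : Subgroup G) :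
    ¬ Cfsg.IsComponent K := by
  intro hK
  have hlayer : Cfsg.layer G = ⊥ := by
    rw [← le_bot_iff]
    refine Cfsg.Agent.Components.Local.le_of_pPrime_mem_of_perfect (p := p)
      Cfsg.Agent.Components.Basic.commutator_layer_self fun x hx hcop => mem_bot.2 ?_
    exact Cfsg.Agent.CharP.eq_one_of_mem_pgroup (Cfsg.Agent.CharP.isPGroup_pCore p G)
      (h (Cfsg.Agent.Components.Local.layer_le_centralizer_pCore hx)) hcop
  have hbot : K = ⊥ := le_bot_iff.1 (hlayer ▸ le_sSup hK)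
  subst hbot
  haveI := hK.2.2
  obtain ⟨a, b, hab⟩ := exists_pair_ne (↥(⊥ : Subgroup G) ⧸ Subgroup.center ↥(⊥ : Subgroup G))
  exact hab (Subsingleton.elim a b)

end Cfsg.Agent.LieLocalChar
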