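import Cfsg.Agent.Lib.Coprime.PGroup
import Cfsg.Agent.Lib.CharP.CharP

/-!
# A criterion for local characteristic `p`

`LC p Z`: every nontrivial `p`-subgroup `T` has a `p`-subgroup `Q`, normalised by `N(T)`, whose
centraliser in `N(T)` has all its `p'`-elements in `Z`.
-/

set_option autoImplicit false

namespace Cfsg.Agent.LieLocalChar

open Subgroup

variable {G H A : Type*} [Group G] [Group H] [Group A] {p : ℕ}

/-- the criterion, relative to a subgroup of allowed elements -/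
def LC (p : ℕ) {G : Type*} [Group G] (Z : Subgroup G) : Prop :=
  ∀ T : Subgroup G, IsPGroup p T → T ≠ ⊥ → ∃ Q : Subgroup G, IsPGroup p Q ∧
    normalizer (T : Set G) ≤ normalizer (Q : Set G) ∧
      ∀ x ∈ normalizer (T : Set G), (orderOf x).Coprime p → (∀ q ∈ Q, x * q = q * x) → x ∈ Z

theorem eq_one_of_pow_eq_one {c : G} {k m : ℕ} (hkm : k.Coprime m) (hk : c ^ k = 1)
    (hm : c ^ m = 1) : c = 1 :=
  orderOf_eq_one_iff.1 (Nat.eq_one_of_dvd_coprimes hkm (orderOf_dvd_of_pow_eq_one hk)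
    (orderOf_dvd_of_pow_eq_one hm))

/-- Conjugation by `x` moving `q` by an element `c` it fixes. -/
theorem pow_conj {x q c : G} (h : x * q * x⁻¹ = c * q) (hc : x * c * x⁻¹ = c) (j : ℕ) :
    x ^ j * q * (x ^ j)⁻¹ = c ^ j * q := by
  induction j with
  | zero => simp
  | succ j ih =>
    rw [pow_succ', show x * x ^ j * q * (x * x ^ j)⁻¹ = x * (x ^ j * q * (x ^ j)⁻¹) * x⁻¹ by group,
      ih, show x * (c ^ j * q) * x⁻¹ = x * c ^ j * x⁻¹ * (x * q * x⁻¹) by group, h, ← conj_pow, hc,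
      ← mul_assoc, ← pow_succ]

theorem commute_of_fixed [Fact p.Prime] {x q c : G} (hx : (orderOf x).Coprime p)
    (h : x * q * x⁻¹ = c * q) (hc : x * c * x⁻¹ = c) {k : ℕ} (hk : c ^ p ^ k = 1) :
    x * q = q * x := by
  have h1 := pow_conj h hc (orderOf x)
  rw [pow_orderOf_eq_one, one_mul, inv_one, mul_one, right_eq_mul] at h1
  rw [eq_one_of_pow_eq_one (hx.pow_right k) h1 hk, one_mul, mul_inv_eq_iff_eq_mul] at h
  exact h

theorem LC.mono {Z Z' : Subgroup G} (h : LC p Z) (hle : Z ≤ Z') : LC p Z' := fun T hT hne => by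
  obtain ⟨Q, hQ, hN, hx⟩ := h T hT hne
  exact ⟨Q, hQ, hN, fun x h1 h2 h3 => hle (hx x h1 h2 h3)⟩

/-- Passing to an injective image of a group normalised inside a larger one. -/
theorem of_embedding [Fact p.Prime] [Finite H] (φ : H →* A) (hφ : Function.Injective φ)
    {Z : Subgroup H}
    (h : ∀ T : Subgroup H, IsPGroup p T → T ≠ ⊥ → ∃ Q : Subgroup A, IsPGroup p Q ∧
      (∀ q ∈ Q, ∀ y : H, q * φ y * q⁻¹ ∈ φ.range) ∧
      (∀ y ∈ normalizer (T : Set H), ∀ q ∈ Q, φ y * q * (φ y)⁻¹ ∈ Q) ∧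
      ∀ x ∈ normalizer (T : Set H), (orderOf x).Coprime p →
        (∀ q ∈ Q, φ x * q = q * φ x) → x ∈ Z) : LC p Z := by
  intro T hT hne
  obtain ⟨Q, hQ, hrange, hnorm, hx⟩ := h T hT hne
  have hQ' : IsPGroup p (Q.comap φ) := fun a => by
    obtain ⟨k, hk⟩ := hQ ⟨φ a, a.2⟩
    exact ⟨k, Subtype.ext (hφ (by simpa using congrArg Subtype.val hk))⟩
  refine ⟨Q.comap φ, hQ', fun y hy => mem_normalizer_iff.2 fun a => ?_, fun x hxN hxp hc => ?_⟩
  · simp only [mem_comap, map_mul, map_inv]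
    refine ⟨hnorm y hy _, fun h1 => ?_⟩
    have h2 := hnorm y⁻¹ (inv_mem hy) _ h1
    simpa [map_inv, mul_assoc] using h2
  refine hx x hxN hxp fun q hq => ?_
  obtain ⟨z, hz⟩ := hrange q hq x⁻¹
  have hcR : φ (x * z) = φ x * q * (φ x)⁻¹ * q⁻¹ := by rw [map_mul, hz, map_inv]; group
  have hcQ : x * z ∈ Q.comap φ := by
    rw [mem_comap, hcR]
    exact mul_mem (hnorm x hxN q hq) (inv_mem hq)
  have hfix : φ x * φ (x * z) * (φ x)⁻¹ = φ (x * z) := by
    rw [← map_inv, ← map_mul, ← map_mul, hc _ hcQ]; group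
  obtain ⟨k, hk⟩ := hQ' ⟨x * z, hcQ⟩
  refine commute_of_fixed (p := p) (by rwa [orderOf_injective φ hφ]) ?_ hfix
    (k := k) (by rw [← map_pow, show (x * z) ^ p ^ k = 1 from congrArg Subtype.val hk, map_one])
  rw [hcR]; group

theorem of_normal [Fact p.Prime] [Finite G] (N : Subgroup G) [N.Normal]
    (h : LC p (⊥ : Subgroup G)) : LC p (⊥ : Subgroup N) := by
  refine of_embedding N.subtype N.subtype_injective fun T hT hne => ?_
  obtain ⟨Q, hQ, hN, hx⟩ := h (T.map N.subtype) (hT.map _)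
    (by rwa [Ne, map_eq_bot_iff_of_injective _ N.subtype_injective])
  have hmem : ∀ y ∈ normalizer (T : Set N), N.subtype y ∈ normalizer (T.map N.subtype : Set G) :=
    fun y hy => le_normalizer_map N.subtype (mem_map_of_mem _ hy)
  refine ⟨Q, hQ, fun q _ y => ?_, fun y hy q hq => (mem_normalizer_iff.1 (hN (hmem y hy)) q).1 hq,
    fun x hxN hxp hc => ?_⟩
  · rw [range_subtype]
    exact Normal.conj_mem inferInstance _ y.2 q
  · have := hx _ (hmem x hxN) (by rwa [orderOf_injective N.subtype N.subtype_injective]) hc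
    rw [mem_bot] at this ⊢
    exact N.subtype_injective (this.trans (map_one _).symm)

theorem transfer [Fact p.Prime] [Finite H] (e : G ≃* H) (h : LC p (⊥ : Subgroup H)) :
    LC p (⊥ : Subgroup G) := by
  have : Finite G := Finite.of_equiv _ e.toEquiv.symm
  refine of_embedding e.toMonoidHom e.injective fun T hT hne => ?_
  obtain ⟨Q, hQ, hN, hx⟩ := h (T.map e.toMonoidHom) (hT.map _)
    (by rwa [Ne, map_eq_bot_iff_of_injective _ e.injective])
  have hmem : ∀ y ∈ normalizer (T : Set G), e y ∈ normalizer (T.map e.toMonoidHom : Set H) :=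
    fun y hy => le_normalizer_map e.toMonoidHom (mem_map_of_mem _ hy)
  refine ⟨Q, hQ, fun q _ y => ⟨e.symm (q * e y * q⁻¹), e.apply_symm_apply _⟩,
    fun y hy q hq => (mem_normalizer_iff.1 (hN (hmem y hy)) q).1 hq, fun x hxN hxp hc => ?_⟩
  have := hx _ (hmem x hxN) (by rwa [MulEquiv.orderOf_eq]) hc
  rw [mem_bot] at this ⊢
  exact e.injective (this.trans (map_one _).symm)

/-- A central quotient. -/
theorem cover [Fact p.Prime] [Finite H] (π : H →* G) (hπ : Function.Surjective π)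
    (hker : π.ker ≤ center H) (h : LC p π.ker) : LC p (⊥ : Subgroup G) := by
  have : Finite G := Finite.of_surjective _ hπ
  intro T hT hne
  set E := T.comap π
  have hnil : Group.IsNilpotent E := by
    have := hT.isNilpotent
    refine Subgroup.isNilpotent_of_ker_le_center (π.subgroupComap T) (fun a ha => ?_)
    refine mem_center_iff.2 fun b => Subtype.ext ?_
    have h1 : π a = 1 := congrArg Subtype.val (MonoidHom.mem_ker.1 ha)
    exact mem_center_iff.1 (hker h1) b
  obtain ⟨S⟩ : Nonempty (Sylow p E) := inferInstance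
  have hSn : (S : Subgroup E).Normal := by infer_instance
  set R := (S : Subgroup E).map E.subtype
  have hR : IsPGroup p R := S.2.map _
  have hRT : R.map π = T := by
    obtain ⟨S', hS'⟩ : ∃ S' : Sylow p T, S' = S.mapSurjective (f := π.subgroupComap T)
        (fun t => by obtain ⟨a, ha⟩ := hπ t; exact ⟨⟨a, by simp [ha]⟩, Subtype.ext ha⟩) :=
      ⟨_, rfl⟩
    have htop : (S' : Subgroup T) = ⊤ := by
      have := S'.3 (show IsPGroup p (⊤ : Subgroup T) from hT.to_subgroup _) le_top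
      exact this.symm
    refine le_antisymm ?_ fun t ht => ?_
    · rintro _ ⟨_, ⟨a, -, rfl⟩, rfl⟩
      exact a.2
    · have hm : (⟨t, ht⟩ : T) ∈ (S' : Subgroup T) := htop ▸ mem_top _
      rw [hS'] at hm
      obtain ⟨a, ha, he⟩ := hm
      exact ⟨a, mem_map_of_mem _ ha, congrArg Subtype.val he⟩
  obtain ⟨Q, hQ, hN, hx⟩ := h R hR fun h0 => hne (by rw [← hRT, h0, Subgroup.map_bot])
  have hmem : ∀ y : H, π y ∈ normalizer (T : Set G) → y ∈ normalizer (R : Set H) := fun y hy => by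
    have key : ∀ z : H, π z ∈ normalizer (T : Set G) → ∀ r ∈ R, z * r * z⁻¹ ∈ R := by
      rintro z hz _ ⟨e, he, rfl⟩
      have hzE : z * e * z⁻¹ ∈ E := by
        simp only [E, mem_comap, map_mul, map_inv]
        exact (mem_normalizer_iff.1 hz (π e)).1 e.2
      obtain ⟨k, hk⟩ := S.2 ⟨e, he⟩
      have hk' : (⟨z * e * z⁻¹, hzE⟩ : E) ^ p ^ k = 1 := Subtype.ext (by
        have h2 : (e : H) ^ p ^ k = 1 :=
          congrArg (fun t : (S : Subgroup E) => ((t : E) : H)) hk
        simp [conj_pow, h2])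
      have hz' : IsPGroup p (zpowers (⟨z * e * z⁻¹, hzE⟩ : E)) := by
        rintro ⟨w, hw⟩
        obtain ⟨j, rfl⟩ := mem_zpowers_iff.1 hw
        exact ⟨k, Subtype.ext (show (_ ^ j) ^ p ^ k = 1 by
          rw [← zpow_natCast, ← zpow_mul, mul_comm, zpow_mul, zpow_natCast, hk', one_zpow])⟩
      obtain ⟨S', hS'⟩ := hz'.exists_le_sylow
      have := Sylow.unique_of_normal S hSn
      exact ⟨_, Subsingleton.elim S' S ▸ hS' (mem_zpowers _), rfl⟩
    refine mem_normalizer_iff.2 fun r => ⟨key y hy r, fun hr => ?_⟩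
    have := key y⁻¹ (by rw [map_inv]; exact inv_mem hy) _ hr
    simpa [mul_assoc] using this
  refine ⟨Q.map π, hQ.map _, fun g hg => ?_, fun x hxN hxp hc => ?_⟩
  · obtain ⟨y, rfl⟩ := hπ g
    exact le_normalizer_map π (mem_map_of_mem _ (hN (hmem y hg)))
  obtain ⟨y₀, rfl⟩ := hπ x
  obtain ⟨a, m, hm, hord⟩ := Nat.exists_eq_pow_mul_and_not_dvd (orderOf_pos y₀).ne' p
    (Fact.out : p.Prime).ne_one
  obtain ⟨s, hs⟩ := exists_pow_eq_self_of_coprime (x := π y₀) (n := p ^ a) (hxp.symm.pow_left a)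
  set y := y₀ ^ (p ^ a * s) with hy
  have hπy : π y = π y₀ := by rw [hy, map_pow, pow_mul, hs]
  have hym : y ^ m = 1 := by
    rw [hy, ← pow_mul, show p ^ a * s * m = p ^ a * m * s by ring, ← hord, pow_mul,
      pow_orderOf_eq_one, one_pow]
  have hyp : (orderOf y).Coprime p :=
    Nat.Coprime.coprime_dvd_left (orderOf_dvd_of_pow_eq_one hym)
      ((Fact.out : p.Prime).coprime_iff_not_dvd.2 hm).symm
  have hyN := hmem y (hπy ▸ hxN)
  suffices y ∈ π.ker by rw [mem_bot, ← hπy]; exact this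
  refine hx y hyN hyp fun q hq => ?_
  have hz : y * q * y⁻¹ * q⁻¹ ∈ π.ker := by
    rw [MonoidHom.mem_ker, map_mul, map_mul, map_mul, map_inv, map_inv, hπy,
      hc _ (mem_map_of_mem _ hq)]
    group
  have hzQ : y * q * y⁻¹ * q⁻¹ ∈ Q :=
    mul_mem ((mem_normalizer_iff.1 (hN hyN) q).1 hq) (inv_mem hq)
  obtain ⟨k, hk⟩ := hQ ⟨_, hzQ⟩
  refine commute_of_fixed hyp (by group) ?_ (k := k) (congrArg Subtype.val hk)
  rw [mem_center_iff.1 (hker hz) y]; group

/-- **Local characteristic `p`.** -/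
theorem centralizer_pCore_le [Fact p.Prime] [Finite G] (h : LC p (⊥ : Subgroup G))
    {T : Subgroup G} (hT : IsPGroup p T) (hne : T ≠ ⊥) :
    centralizer (Cfsg.pCore p ↥(normalizer (T : Set G)) : Set ↥(normalizer (T : Set G))) ≤
      Cfsg.pCore p ↥(normalizer (T : Set G)) := by
  obtain ⟨Q, hQ, hN, hx⟩ := h T hT hne
  set M := normalizer (T : Set G) with hM
  set R := Cfsg.pCore p ↥M with hRdef
  have hTn : (T.subgroupOf M).Normal := normal_subgroupOf_iff_le_normalizer (le_normalizer) |>.2 le_rfl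
  have hTR : T.subgroupOf M ≤ R :=
    Cfsg.Agent.CharP.le_pCore hTn (hT.of_equiv (subgroupOfEquivOfLe le_normalizer).symm)
  have hQn : (Q.subgroupOf M).Normal := ⟨fun a ha b => by
    rw [mem_subgroupOf] at ha ⊢
    simpa using (mem_normalizer_iff.1 (hN b.2) _).1 ha⟩
  have hQR : Q.subgroupOf M ≤ R := Cfsg.Agent.CharP.le_pCore hQn (fun a => by
    obtain ⟨k, hk⟩ := hQ ⟨_, a.2⟩
    exact ⟨k, Subtype.ext (Subtype.ext (by simpa using congrArg Subtype.val hk))⟩)
  have hC : IsPGroup p ↥(centralizer (R : Set M)) := by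
    intro g
    obtain ⟨a, m, hm, hord⟩ := Nat.exists_eq_pow_mul_and_not_dvd (orderOf_pos g).ne' p
      (Fact.out : p.Prime).ne_one
    refine ⟨a, ?_⟩
    set x := (g ^ p ^ a : ↥(centralizer (R : Set M))) with hx'
    have hxm : x ^ m = 1 := by rw [hx', ← pow_mul, ← hord, pow_orderOf_eq_one]
    have hxG : ((x : M) : G) ^ m = 1 := by simpa using congrArg (fun y : ↥(centralizer (R : Set M)) => ((y : M) : G)) hxm
    have hxp : (orderOf ((x : M) : G)).Coprime p :=
      Nat.Coprime.coprime_dvd_left (orderOf_dvd_of_pow_eq_one hxG)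
        ((Fact.out : p.Prime).coprime_iff_not_dvd.2 hm).symm
    have hcR : ∀ r ∈ R, ((r : M) : G) * ((x : M) : G) = ((x : M) : G) * r := fun r hr =>
      congrArg Subtype.val (mem_centralizer_iff.1 x.2 r hr)
    have hcT : T ≤ centralizer (zpowers ((x : M) : G) : Set G) := by
      intro t ht
      rw [mem_centralizer_iff]
      intro y hy
      obtain ⟨j, rfl⟩ := mem_zpowers_iff.1 hy
      exact (Commute.zpow_right (hcR ⟨t, le_normalizer ht⟩ (hTR (mem_subgroupOf.2 ht))) j).eq.symm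
    have hxQ : ∀ q ∈ Q, ((x : M) : G) * q = q * ((x : M) : G) := by
      have hle : zpowers ((x : M) : G) ≤ centralizer (Q : Set G) := by
        refine Cfsg.Agent.Coprime.le_centralizer_of_pxq hT ?_ hQ hcT
          ((le_normalizer).trans hN) ((zpowers_le.2 (hN (x : M).2))) ?_
        · rwa [Nat.card_zpowers]
        · rintro q ⟨hqQ, hqC⟩
          have hqM : q ∈ M := mem_normalizer_iff.2 fun t => ⟨fun ht => by
              rwa [← mem_centralizer_iff.1 hqC t ht, mul_inv_cancel_right],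
            fun ht => by
              have h1 := mem_centralizer_iff.1 hqC _ ht
              rw [mul_assoc, inv_mul_cancel, mul_one] at h1
              have : t = q * t * q⁻¹ := mul_left_cancel h1
              rwa [← this] at ht⟩
          rw [mem_centralizer_iff]
          intro y hy
          obtain ⟨j, rfl⟩ := mem_zpowers_iff.1 hy
          exact (Commute.zpow_left (hcR ⟨q, hqM⟩ (hQR (mem_subgroupOf.2 hqQ))).symm j).eq
      exact fun q hq => (mem_centralizer_iff.1 (hle (mem_zpowers _)) q hq).symm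
    have := hx _ (x : M).2 hxp hxQ
    exact Subtype.ext (Subtype.ext (mem_bot.1 this))
  exact Cfsg.Agent.CharP.le_pCore inferInstance hC

end Cfsg.Agent.LieLocalChar
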