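import Cfsg.Agent.Lib.LieLocalChar.Basic

/-!
# The criterion for isometry groups

The subgroup `Q` is the unipotent radical of the stabiliser of a totally isotropic subspace `W`.
-/

set_option autoImplicit false
set_option linter.unusedSectionVars false

namespace Cfsg.Agent.LieLocalChar.Form

open Subgroup

variable {F V H : Type*} [Field F] [AddCommGroup V] [Module F V] [Group H] {p : ℕ} [Fact p.Prime]
  [CharP F p]

theorem pow_sub_one {e : Module.End F V} (h : (e - 1) ^ 3 = 0) [Nontrivial V] :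
    e ^ p ^ 2 = 1 := by
  have : CharP (Module.End F V) p := charP_of_injective_algebraMap' F p
  have h1 : (e - 1) ^ p ^ 2 = e ^ p ^ 2 - 1 := by
    rw [sub_pow_char_pow_of_commute (p := p) _ (Commute.one_right e), one_pow]
  have h3 : 3 ≤ p ^ 2 := by
    have := (Fact.out : p.Prime).two_le
    nlinarith
  obtain ⟨k, hk⟩ := Nat.exists_eq_add_of_le h3
  rw [hk, pow_add, h, zero_mul] at h1
  rw [hk]
  exact sub_eq_zero.1 h1.symm

/-- A `p'`-element, unipotent up to a scalar, is scalar. -/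
theorem scalar_of_nilpotent [Nontrivial V] {x : V ≃ₗ[F] V} (hx : (orderOf x).Coprime p) {μ : F}
    (hμ : μ ≠ 0)
    (h : ((x : Module.End F V) - algebraMap F (Module.End F V) μ) ^ 3 = 0) :
    ∃ ν : F, ∀ v, x v = ν • v := by
  set e : Module.End F V := (x : Module.End F V) with he
  set a := algebraMap F (Module.End F V) μ⁻¹ with ha
  have hcomm : Commute a e := Algebra.commutes _ _
  have h1 : (a * e - 1) ^ 3 = 0 := by
    have : a * e - 1 = a * (e - algebraMap F (Module.End F V) μ) := by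
      rw [mul_sub, ha, ← map_mul, inv_mul_cancel₀ hμ, map_one]
    rw [this, Commute.mul_pow (Algebra.commutes _ _), h, mul_zero]
  have h2 := pow_sub_one (p := p) h1
  rw [hcomm.mul_pow, ha, ← map_pow] at h2
  have hx2 : e ^ p ^ 2 = algebraMap F (Module.End F V) (μ ^ p ^ 2) := by
    have := congrArg (fun t => algebraMap F (Module.End F V) (μ ^ p ^ 2) * t) h2
    rwa [← mul_assoc, ← map_mul, ← mul_pow, mul_inv_cancel₀ hμ, one_pow, map_one, one_mul,
      mul_one] at this
  obtain ⟨k, hk⟩ := exists_pow_eq_self_of_coprime (x := x) (n := p ^ 2) (hx.symm.pow_left 2)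
  refine ⟨(μ ^ p ^ 2) ^ k, fun v => ?_⟩
  have h3 : e = algebraMap F (Module.End F V) ((μ ^ p ^ 2) ^ k) := by
    rw [map_pow, ← hx2, he]
    conv_lhs => rw [← hk]
    rw [← pow_mul, ← pow_mul]
    exact map_pow (LinearEquiv.automorphismGroup.toLinearMapMonoidHom (R := F) (M := V)) x _
  have h4 := LinearMap.congr_fun h3 v
  rwa [Module.algebraMap_end_apply] at h4

/-- A `p`-group acting on a nonzero section has a nonzero fixed vector there. -/
theorem exists_fixed [Finite V] [Finite F] {T : Subgroup H} (hT : IsPGroup p T)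
    (ρ : H →* (V ≃ₗ[F] V)) {X Y : Submodule F V} (hXY : X < Y)
    (hX : ∀ t ∈ T, ∀ v ∈ X, ρ t v ∈ X) (hY : ∀ t ∈ T, ∀ v ∈ Y, ρ t v ∈ Y) :
    ∃ y ∈ Y, y ∉ X ∧ ∀ t ∈ T, ρ t y - y ∈ X := by
  set S : Submodule F (V ⧸ X) := Y.map X.mkQ
  let f : T → (V ⧸ X) →ₗ[F] (V ⧸ X) := fun t =>
    X.mapQ X (ρ t : V →ₗ[F] V) (fun v hv => hX _ t.2 v hv)
  have hf : ∀ (t : T) (v : V), f t (X.mkQ v) = X.mkQ (ρ t v) := fun t v => rfl
  have hS : ∀ (t : T), ∀ s ∈ S, f t s ∈ S := by
    rintro t _ ⟨v, hv, rfl⟩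
    exact ⟨ρ t v, hY _ t.2 v hv, (hf t v).symm⟩
  let _ : MulAction T S :=
    { smul := fun t s => ⟨f t s, hS t s s.2⟩
      one_smul := fun s => Subtype.ext (by
        obtain ⟨v, hv⟩ := X.mkQ_surjective (s : V ⧸ X)
        show f 1 (s : V ⧸ X) = s
        rw [← hv, hf]
        simp)
      mul_smul := fun t u s => Subtype.ext (by
        obtain ⟨v, hv⟩ := X.mkQ_surjective (s : V ⧸ X)
        show f (t * u) (s : V ⧸ X) = f t (f u s)
        rw [← hv, hf, hf, hf]
        simp) }
  have h0 : (0 : S) ∈ MulAction.fixedPoints T S := fun t => Subtype.ext (map_zero (f t))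
  have hdvd : p ∣ Nat.card S := by
    have hne : S ≠ ⊥ := fun h => hXY.not_ge fun y hy => by
      have : X.mkQ y ∈ S := Submodule.mem_map_of_mem hy
      rw [h, Submodule.mem_bot, Submodule.mkQ_apply, Submodule.Quotient.mk_eq_zero] at this
      exact this
    have : Finite (V ⧸ X) := Finite.of_surjective _ X.mkQ_surjective
    have : Fintype F := Fintype.ofFinite F
    have : Module.Finite F S := Module.Finite.of_finite
    rw [Module.natCard_eq_pow_finrank (K := F), Nat.card_eq_fintype_card]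
    obtain ⟨e, -, he⟩ := FiniteField.card F p
    refine dvd_pow (he ▸ dvd_pow_self p e.pos.ne') ?_
    intro h
    exact hne (Submodule.finrank_eq_zero.1 h)
  have : Finite (V ⧸ X) := Finite.of_surjective _ X.mkQ_surjective
  obtain ⟨s, hs, hs0⟩ := hT.exists_fixed_point_of_prime_dvd_card_of_fixed_point _ hdvd h0
  obtain ⟨y, hy, hys⟩ := s.2
  refine ⟨y, hy, fun hyX => hs0 (Subtype.ext ?_), fun t ht => ?_⟩
  · rw [← hys]
    exact ((Submodule.Quotient.mk_eq_zero X).2 hyX).symm
  · have h1 : f ⟨t, ht⟩ (s : V ⧸ X) = s := congrArg Subtype.val (hs ⟨t, ht⟩)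
    rw [← hys, hf] at h1
    exact (Submodule.Quotient.eq X).1 h1

/-- The common fixed vectors. -/
def fixSub (ρ : H →* (V ≃ₗ[F] V)) (T : Subgroup H) : Submodule F V where
  carrier := {v | ∀ t ∈ T, ρ t v = v}
  zero_mem' := fun t _ => map_zero _
  add_mem' := fun {a b} ha hb t ht => by rw [map_add, ha t ht, hb t ht]
  smul_mem' := fun c {a} ha t ht => by rw [map_smul, ha t ht]

theorem mem_fixSub {ρ : H →* (V ≃ₗ[F] V)} {T : Subgroup H} {v : V} :
    v ∈ fixSub ρ T ↔ ∀ t ∈ T, ρ t v = v := Iff.rfl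

theorem fixSub_invariant (ρ : H →* (V ≃ₗ[F] V)) (T : Subgroup H) {y : H}
    (hy : y ∈ normalizer (T : Set H)) {v : V} (hv : v ∈ fixSub ρ T) : ρ y v ∈ fixSub ρ T := by
  intro t ht
  have h1 : y⁻¹ * t * y ∈ T := by
    have := (mem_normalizer_iff.1 (inv_mem hy) t).1 ht
    simpa using this
  calc ρ t (ρ y v) = ρ (y * (y⁻¹ * t * y)) v := by
        rw [show y * (y⁻¹ * t * y) = t * y by group, map_mul]; rfl
    _ = ρ y v := by rw [map_mul]; exact congrArg (ρ y) (hv _ h1)

/-- A reflexive nondegenerate form, linear in the first and `τ`-semilinear in the second variable. -/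
structure Pairing (F V : Type*) [Field F] [AddCommGroup V] [Module F V] where
  /-- the form -/
  f : V → V → F
  /-- the twist -/
  τ : F → F
  add_left : ∀ u v w, f (u + v) w = f u w + f v w
  smul_left : ∀ c v w, f (c • v) w = c * f v w
  add_right : ∀ u v w, f u (v + w) = f u v + f u w
  smul_right : ∀ c v w, f v (c • w) = τ c * f v w
  refl : ∀ v w, f v w = 0 → f w v = 0
  nondeg : ∀ v, (∀ w, f v w = 0) → v = 0
  τ_surj : ∀ c, ∃ d, τ d = c

namespace Pairing

variable (P : Pairing F V)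

/-- `v ↦ f v w` -/
def lin (w : V) : V →ₗ[F] F where
  toFun v := P.f v w
  map_add' u v := P.add_left u v w
  map_smul' c v := P.smul_left c v w

theorem lin_apply (w v : V) : P.lin w v = P.f v w := rfl

theorem zero_left (w : V) : P.f 0 w = 0 := map_zero (P.lin w)

theorem zero_right (v : V) : P.f v 0 = 0 := P.refl _ _ (P.zero_left v)

theorem sub_left (u v w : V) : P.f (u - v) w = P.f u w - P.f v w := map_sub (P.lin w) u v

theorem τ_zero [Nontrivial V] : P.τ 0 = 0 := by
  obtain ⟨v, hv⟩ := exists_ne (0 : V)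
  obtain ⟨w, hw⟩ : ∃ w, P.f v w ≠ 0 := by
    by_contra h; push Not at h; exact hv (P.nondeg v h)
  have := P.smul_right 0 v w
  rw [zero_smul, P.zero_right, eq_comm, mul_eq_zero] at this
  exact this.resolve_right hw

/-- the orthogonal space -/
def perp (W : Submodule F V) : Submodule F V := ⨅ w ∈ W, LinearMap.ker (P.lin w)

theorem mem_perp {W : Submodule F V} {v : V} : v ∈ P.perp W ↔ ∀ w ∈ W, P.f v w = 0 := by
  simp [perp, lin_apply]

theorem mem_perp_of_basis {W : Submodule F V} {ι : Type*} [Fintype ι]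
    (b : Module.Basis ι F W) {v : V} (h : ∀ i, P.f v (b i : V) = 0) : v ∈ P.perp W := by
  refine P.mem_perp.2 fun w hw => ?_
  let R : V →+ F := AddMonoidHom.mk' (fun z => P.f v z) (P.add_right v)
  have e : w = ((∑ i, (b.repr ⟨w, hw⟩) i • b i : W) : V) := by rw [b.sum_repr]
  show R w = 0
  rw [e, Submodule.coe_sum, map_sum]
  refine Finset.sum_eq_zero fun i _ => ?_
  show P.f v _ = 0
  rw [Submodule.coe_smul, P.smul_right, h, mul_zero]

theorem perp_ne_bot [FiniteDimensional F V] {W : Submodule F V} (hW : W ≠ ⊤) : P.perp W ≠ ⊥ := by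
  intro h
  let b := Module.finBasis F W
  let L : V →ₗ[F] (Fin (Module.finrank F W) → F) := LinearMap.pi fun i => P.lin (b i : V)
  have hL : LinearMap.ker L = ⊥ := eq_bot_iff.2 fun v hv =>
    h ▸ P.mem_perp_of_basis b fun i => congrFun (LinearMap.mem_ker.1 hv) i
  have h1 := LinearMap.finrank_le_finrank_of_injective (LinearMap.ker_eq_bot.1 hL)
  rw [Module.finrank_fintype_fun_eq_card, Fintype.card_fin] at h1
  exact hW (Submodule.eq_top_of_finrank_eq (le_antisymm (Submodule.finrank_le W) h1))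

/-- the radical of the fixed space -/
def fixRad (ρ : H →* (V ≃ₗ[F] V)) (T : Subgroup H) : Submodule F V :=
  fixSub ρ T ⊓ P.perp (fixSub ρ T)

variable {P} {ρ : H →* (V ≃ₗ[F] V)}

theorem perp_invariant (hρ : ∀ y u v, P.f (ρ y u) (ρ y v) = P.f u v) {W : Submodule F V} {y : H}
    (hy : ∀ v ∈ W, ρ y⁻¹ v ∈ W) {v : V} (hv : v ∈ P.perp W) : ρ y v ∈ P.perp W := by
  refine P.mem_perp.2 fun w hw => ?_
  have e : w = ρ y (ρ y⁻¹ w) := by
    rw [map_inv]; exact ((ρ y).apply_symm_apply w).symm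
  rw [e, hρ]
  exact P.mem_perp.1 hv _ (hy w hw)

theorem fixRad_invariant (hρ : ∀ y u v, P.f (ρ y u) (ρ y v) = P.f u v) (T : Subgroup H) {y : H}
    (hy : y ∈ normalizer (T : Set H)) {v : V} (hv : v ∈ P.fixRad ρ T) : ρ y v ∈ P.fixRad ρ T :=
  ⟨fixSub_invariant ρ T hy hv.1,
    perp_invariant hρ (fun _ hw => fixSub_invariant ρ T (inv_mem hy) hw) hv.2⟩

theorem fixRad_isotropic {T : Subgroup H} {u v : V} (hu : u ∈ P.fixRad ρ T)
    (hv : v ∈ P.fixRad ρ T) : P.f u v = 0 :=
  P.mem_perp.1 hu.2 v hv.1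

theorem fixRad_ne_bot [Finite V] [Finite F] (hρ : ∀ y u v, P.f (ρ y u) (ρ y v) = P.f u v)
    (hinj : Function.Injective ρ) {T : Subgroup H} (hT : IsPGroup p T) (hne : T ≠ ⊥) :
    P.fixRad ρ T ≠ ⊥ := by
  intro h
  have : FiniteDimensional F V := Module.Finite.of_finite
  have hU : fixSub ρ T ≠ ⊤ := fun htop => hne <| (Subgroup.eq_bot_iff_forall _).2 fun t ht => by
    refine hinj ?_
    rw [map_one]
    exact LinearEquiv.ext fun v => (htop ▸ Submodule.mem_top : v ∈ fixSub ρ T) t ht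
  have hinv : ∀ t ∈ T, ∀ v ∈ P.perp (fixSub ρ T), ρ t v ∈ P.perp (fixSub ρ T) := fun t ht v hv =>
    perp_invariant hρ (fun w hw => by rw [hw _ (inv_mem ht)]; exact hw) hv
  obtain ⟨y, hy, hy0, hfix⟩ := exists_fixed hT ρ (bot_lt_iff_ne_bot.2 (P.perp_ne_bot hU))
    (fun t _ v hv => by rw [Submodule.mem_bot] at hv ⊢; rw [hv, map_zero]) hinv
  have : y ∈ P.fixRad ρ T := ⟨fun t ht => sub_eq_zero.1 ((Submodule.mem_bot F).1 (hfix t ht)), hy⟩
  rw [h] at this
  exact hy0 this

theorem exists_dual {w : V} (hw : w ≠ 0) : ∃ v, P.f v w = 1 := by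
  obtain ⟨v, hv⟩ : ∃ v, P.f w v ≠ 0 := by
    by_contra h; push Not at h; exact hw (P.nondeg w h)
  have hv' : P.f v w ≠ 0 := fun h => hv (P.refl _ _ h)
  exact ⟨(P.f v w)⁻¹ • v, by rw [P.smul_left, inv_mul_cancel₀ hv']⟩

theorem exists_separating {w u : V} (hw : w ≠ 0) (hu : u ∉ Submodule.span F {w}) :
    ∃ v, P.f v w = 0 ∧ P.f v u ≠ 0 := by
  by_contra h
  push Not at h
  obtain ⟨v₁, hv₁⟩ := exists_dual (P := P) hw
  obtain ⟨d, hd⟩ := P.τ_surj (P.f v₁ u)
  refine hu (Submodule.mem_span_singleton.2 ⟨d, ?_⟩)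
  have hall : ∀ v, P.f v (d • w) = P.f v u := fun v => by
    have h1 := h (v - P.f v w • v₁) (by rw [P.sub_left, P.smul_left, hv₁, mul_one, sub_self])
    rw [P.sub_left, P.smul_left, sub_eq_zero] at h1
    rw [P.smul_right, hd, h1, mul_comm]
  by_contra hne
  obtain ⟨v, hv⟩ := exists_dual (P := P) (sub_ne_zero.2 hne)
  have h1 := P.add_right v (d • w - u) u
  rw [sub_add_cancel, hv, hall, right_eq_add] at h1
  exact one_ne_zero h1

end Pairing

/-- the isometries fixing `W` pointwise and acting trivially on `perp W / W` -/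
def radical (P : Pairing F V) (A : Subgroup (V ≃ₗ[F] V))
    (hA : ∀ a ∈ A, ∀ u v, P.f (a u) (a v) = P.f u v) (W : Submodule F V) :
    Subgroup (V ≃ₗ[F] V) where
  carrier := {g | g ∈ A ∧ (∀ w ∈ W, g w = w) ∧ ∀ v ∈ P.perp W, g v - v ∈ W}
  one_mem' := ⟨one_mem A, fun w _ => rfl, fun v _ => by simp⟩
  mul_mem' := fun {g h} hg hh => ⟨mul_mem hg.1 hh.1, fun w hw => by
      show g (h w) = w
      rw [hh.2.1 w hw, hg.2.1 w hw], fun v hv => by
      have hperp : h v ∈ P.perp W := P.mem_perp.2 fun w hw => by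
        rw [← hh.2.1 w hw, hA h hh.1]; exact P.mem_perp.1 hv w hw
      show g (h v) - v ∈ W
      have := W.add_mem (hg.2.2 _ hperp) (hh.2.2 v hv)
      simpa using this⟩
  inv_mem' := fun {g} hg => by
    have hfix : ∀ w ∈ W, g⁻¹ w = w := fun w hw => by
      conv_lhs => rw [← hg.2.1 w hw]
      exact g.symm_apply_apply w
    refine ⟨inv_mem hg.1, hfix, fun v hv => ?_⟩
    have hperp : g⁻¹ v ∈ P.perp W := P.mem_perp.2 fun w hw => by
      rw [← hfix w hw, hA _ (inv_mem hg.1)]; exact P.mem_perp.1 hv w hw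
    have h1 := W.neg_mem (hg.2.2 _ hperp)
    rwa [show g (g⁻¹ v) = v from g.apply_symm_apply v, neg_sub] at h1

theorem radical_isPGroup [Nontrivial V] (P : Pairing F V) (A : Subgroup (V ≃ₗ[F] V))
    (hA : ∀ a ∈ A, ∀ u v, P.f (a u) (a v) = P.f u v) (W : Submodule F V) :
    IsPGroup p (radical P A hA W) := by
  rintro ⟨g, hgA, hgW, hgP⟩
  refine ⟨2, Subtype.ext ?_⟩
  have hperp : ∀ v, g v - v ∈ P.perp W := fun v => P.mem_perp.2 fun w hw => by
    rw [P.sub_left, sub_eq_zero]
    conv_lhs => rw [← hgW w hw]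
    exact hA g hgA v w
  have h3 : ((g : Module.End F V) - 1) ^ 3 = 0 := by
    refine LinearMap.ext fun v => ?_
    have h1 := hgW _ (hgP _ (hperp v))
    simp only [pow_succ, pow_zero, one_mul, Module.End.mul_apply, LinearMap.sub_apply,
      Module.End.one_apply, LinearEquiv.coe_coe, LinearMap.zero_apply]
    rw [h1, sub_self]
  refine LinearEquiv.ext fun v => ?_
  have h2 := LinearMap.congr_fun (pow_sub_one (p := p) h3) v
  show (g ^ p ^ 2) v = v
  exact (LinearMap.congr_fun
    (map_pow (LinearEquiv.automorphismGroup.toLinearMapMonoidHom (R := F) (M := V)) g (p ^ 2)) v).trans h2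

/-- The local criterion for a subgroup of an isometry group. -/
theorem lc [Finite H] [Finite F] [Finite V] (P : Pairing F V) (A : Subgroup (V ≃ₗ[F] V))
    (hA : ∀ a ∈ A, ∀ u v, P.f (a u) (a v) = P.f u v)
    (ρ : H →* (V ≃ₗ[F] V)) (hinj : Function.Injective ρ) (hρA : ∀ y, ρ y ∈ A)
    (hnormal : ∀ a ∈ A, ∀ y : H, a * ρ y * a⁻¹ ∈ ρ.range) (hn : 3 ≤ Module.finrank F V)
    {ε : F} (hε : ε ≠ 0) (good : V → Prop)
    (hS : ∀ w, w ≠ 0 → good w → ∀ u, P.f u w = 0 → ∃ a ∈ A, ∃ c : V → F,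
      (∀ v, a v = v + P.f v w • u + c v • w) ∧ ∀ v, P.f v w = 0 → c v = ε * P.f v u)
    (hTv : ∀ w, good w → P.f w w = 0 → Module.finrank F V ≤ 4 → ∃ a ∈ A, ∃ t : F, t ≠ 0 ∧
      ∀ v, a v = v + (t * P.f v w) • w)
    (hW : ∀ T : Subgroup H, IsPGroup p T → T ≠ ⊥ → ∃ W : Submodule F V, W ≠ ⊥ ∧
      (∀ u ∈ W, ∀ v ∈ W, P.f u v = 0) ∧ (∀ w ∈ W, good w) ∧
      ∀ y ∈ normalizer (T : Set H), ∀ v ∈ W, ρ y v ∈ W) :
    LC p (center H) := by
  have : FiniteDimensional F V := Module.Finite.of_finite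
  have : Nontrivial V := Module.nontrivial_of_finrank_pos (R := F) (by omega)
  refine of_embedding ρ hinj fun T hT hne => ?_
  obtain ⟨W, hW0, hiso, hgood, hinv⟩ := hW T hT hne
  refine ⟨radical P A hA W, radical_isPGroup P A hA W, fun q hq y => hnormal q hq.1 y,
    fun y hy q hq => ?_, fun x hxN hxp hc => ?_⟩
  · have hinv' : ∀ w ∈ W, (ρ y)⁻¹ w ∈ W := fun w hw => by
      rw [← map_inv]; exact hinv _ (inv_mem hy) w hw
    refine ⟨mul_mem (mul_mem (hρA y) hq.1) (inv_mem (hρA y)), fun w hw => ?_, fun v hv => ?_⟩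
    · show ρ y (q ((ρ y)⁻¹ w)) = w
      rw [hq.2.1 _ (hinv' w hw)]
      exact (ρ y).apply_symm_apply w
    · have hv' : (ρ y)⁻¹ v ∈ P.perp W := by
        rw [← map_inv]
        refine Pairing.perp_invariant (fun z u v => hA _ (hρA z) u v) (fun w hw => ?_) hv
        rw [inv_inv]; exact hinv y hy w hw
      have h1 := hinv y hy _ (hq.2.2 _ hv')
      rw [map_sub] at h1
      rwa [show ρ y ((ρ y)⁻¹ v) = v from (ρ y).apply_symm_apply v] at h1
  set X := ρ x with hX
  have hXiso := hA X (hρA x)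
  have hxW : ∀ w ∈ W, X w ∈ W := hinv x hxN
  have hflat : ∀ {w : V}, w ∈ W → ∀ v ∈ P.perp W, P.f v w = 0 := fun hw v hv =>
    P.mem_perp.1 hv _ hw
  have hWperp : W ≤ P.perp W := fun w hw => P.mem_perp.2 fun w' hw' => hiso w hw w' hw'
  have hcom : ∀ a : V ≃ₗ[F] V, a ∈ A → (∀ w ∈ W, a w = w) → (∀ v ∈ P.perp W, a v - v ∈ W) →
      ∀ v, X (a v) = a (X v) := fun a ha h1 h2 v =>
    LinearEquiv.congr_fun (hc a ⟨ha, h1, h2⟩) v
  -- the commutation relation of a Siegel element
  have key : ∀ w ∈ W, w ≠ 0 → ∀ u ∈ P.perp W, ∃ c : V → F,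
      (∀ v, P.f v w • X u + c v • X w = P.f (X v) w • u + c (X v) • w) ∧
        ∀ v, P.f v w = 0 → c v = ε * P.f v u := by
    intro w hw hw0 u hu
    obtain ⟨a, haA, c, ha, hc0⟩ := hS w hw0 (hgood w hw) u (hflat hw u hu)
    have hperp : ∀ v ∈ P.perp W, a v - v ∈ W := fun v hv => by
      rw [ha, hflat hw v hv, zero_smul, add_zero, add_sub_cancel_left]
      exact W.smul_mem _ hw
    have hfix : ∀ w' ∈ W, a w' = w' := fun w' hw' => by
      have hcw : c w' = 0 := by
        rw [hc0 w' (hiso w' hw' w hw), P.refl _ _ (hflat hw' u hu), mul_zero]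
      rw [ha, hiso w' hw' w hw, hcw, zero_smul, zero_smul, add_zero, add_zero]
    refine ⟨c, fun v => ?_, hc0⟩
    have h1 := hcom a haA hfix hperp v
    rw [ha, ha, map_add, map_add, map_smul, map_smul, add_assoc, add_assoc] at h1
    exact add_left_cancel h1
  have hpl : ∀ w ∈ W, w ≠ 0 → ∀ u ∈ P.perp W, u ∉ Submodule.span F {w} →
      X w ∈ Submodule.span F ({w, u} : Set V) := by
    intro w hw hw0 u hu huw
    obtain ⟨c, hc1, hc0⟩ := key w hw hw0 u hu
    obtain ⟨v, hv, hvu⟩ := Pairing.exists_separating (P := P) hw0 huw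
    have h1 := hc1 v
    rw [hv, zero_smul, zero_add, hc0 v hv] at h1
    refine Submodule.mem_span_pair.2 ⟨(ε * P.f v u)⁻¹ * c (X v), (ε * P.f v u)⁻¹ * P.f (X v) w, ?_⟩
    rw [mul_smul, mul_smul, ← smul_add, add_comm, ← h1, smul_smul,
      inv_mul_cancel₀ (mul_ne_zero hε hvu), one_smul]
  -- `x` is scalar on `W`
  have heig : ∀ w ∈ W, X w ∈ Submodule.span F {w} := by
    intro w hw
    rcases eq_or_ne w 0 with rfl | hw0
    · rw [map_zero]; exact Submodule.zero_mem _
    by_contra hnot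
    have hspan : P.perp W ≤ Submodule.span F ({w, X w} : Set V) := fun u hu => by
      by_cases huw : u ∈ Submodule.span F {w}
      · exact Submodule.span_mono (by simp) huw
      obtain ⟨a, b, hab⟩ := Submodule.mem_span_pair.1 (hpl w hw hw0 u hu huw)
      have hb : b ≠ 0 := fun h => hnot (Submodule.mem_span_singleton.2 ⟨a, by simpa [h] using hab⟩)
      refine Submodule.mem_span_pair.2 ⟨-(b⁻¹ * a), b⁻¹, ?_⟩
      rw [← hab, smul_add, smul_smul, smul_smul, inv_mul_cancel₀ hb, one_smul]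
      module
    have hle : Submodule.span F ({w, X w} : Set V) ≤ W :=
      Submodule.span_le.2 (by rintro z (rfl | rfl); exacts [hw, hxW w hw])
    have hd : Module.finrank F (P.perp W) ≤ 2 := by
      classical
      refine (Submodule.finrank_mono hspan).trans ((finrank_span_le_card _).trans ?_)
      simpa using Finset.card_le_two
    have hWle := Submodule.finrank_mono hWperp
    have hn4 : Module.finrank F V ≤ 4 := by
      let b := Module.finBasis F W
      let L : V →ₗ[F] (Fin (Module.finrank F W) → F) := LinearMap.pi fun i => P.lin (b i : V)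
      have hker : LinearMap.ker L ≤ P.perp W := fun v hv =>
        P.mem_perp_of_basis b fun i => congrFun (LinearMap.mem_ker.1 hv) i
      have h1 := LinearMap.finrank_range_add_finrank_ker L
      have h2 := Submodule.finrank_le (LinearMap.range L)
      rw [Module.finrank_fintype_fun_eq_card, Fintype.card_fin] at h2
      have h3 := Submodule.finrank_mono hker
      omega
    obtain ⟨a, haA, t, ht, ha⟩ := hTv w (hgood w hw) (hiso w hw w hw) hn4
    have h1 := hcom a haA (fun w' hw' => by rw [ha, hiso w' hw' w hw]; simp) (fun v hv => by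
      rw [ha, hflat hw v hv, mul_zero, zero_smul, add_zero, sub_self]; exact W.zero_mem)
    obtain ⟨v, hv⟩ := Pairing.exists_dual (P := P) hw0
    have h2 := h1 v
    rw [ha, ha, map_add, map_smul, hv, mul_one] at h2
    refine hnot (Submodule.mem_span_singleton.2 ⟨t⁻¹ * (t * P.f (X v) w), ?_⟩)
    rw [mul_smul, ← add_left_cancel h2, smul_smul, inv_mul_cancel₀ ht, one_smul]
  obtain ⟨w₀, hw₀, hw₀0⟩ := W.ne_bot_iff.1 hW0
  obtain ⟨lam, hlam₀⟩ := Submodule.mem_span_singleton.1 (heig w₀ hw₀)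
  have hlam : ∀ w ∈ W, X w = lam • w := by
    intro w hw
    obtain ⟨a, ha⟩ := Submodule.mem_span_singleton.1 (heig w hw)
    by_cases hdep : w ∈ Submodule.span F {w₀}
    · obtain ⟨b, rfl⟩ := Submodule.mem_span_singleton.1 hdep
      rw [map_smul, ← hlam₀, smul_comm]
    obtain ⟨b, hb⟩ := Submodule.mem_span_singleton.1 (heig (w₀ + w) (W.add_mem hw₀ hw))
    rw [map_add, ← hlam₀, ← ha] at hb
    have h1 : (b - lam) • w₀ + (b - a) • w = 0 := by linear_combination (norm := module) hb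
    have hba : b - a = 0 := by
      by_contra h0
      refine hdep (Submodule.mem_span_singleton.2 ⟨-((b - a)⁻¹ * (b - lam)), ?_⟩)
      have h2 := congrArg (fun z => (b - a)⁻¹ • z) h1
      simp only [smul_add, smul_smul, inv_mul_cancel₀ h0, one_smul, smul_zero] at h2
      linear_combination (norm := module) -h2
    rw [hba, zero_smul, add_zero, smul_eq_zero, sub_eq_zero] at h1
    rw [← ha, ← h1.resolve_right hw₀0, sub_eq_zero.1 hba]
  have hlam0 : lam ≠ 0 := fun h => hw₀0 (X.injective (by rw [hlam w₀ hw₀, h, zero_smul, map_zero]))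
  have hτ : P.τ lam ≠ 0 := by
    intro h
    obtain ⟨v, hv⟩ := Pairing.exists_dual (P := P) hw₀0
    have := hXiso v w₀
    rw [hlam w₀ hw₀, P.smul_right, h, zero_mul, hv] at this
    exact zero_ne_one this
  set μ := (P.τ lam)⁻¹ with hμ
  have hfw : ∀ w ∈ W, ∀ v, P.f (X v) w = μ * P.f v w := fun w hw v => by
    rw [← hXiso v w, hlam w hw, P.smul_right, hμ, ← mul_assoc, inv_mul_cancel₀ hτ, one_mul]
  have hout : ∀ v, X v - μ • v ∈ P.perp W := fun v => P.mem_perp.2 fun w hw => by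
    rw [P.sub_left, P.smul_left, hfw w hw, sub_self]
  obtain ⟨v₀, hv₀⟩ := Pairing.exists_dual (P := P) hw₀0
  have hmid : ∀ u ∈ P.perp W, ∃ k : F, X u = μ • u + k • w₀ := by
    intro u hu
    obtain ⟨c, hc1, -⟩ := key w₀ hw₀ hw₀0 u hu
    have h1 := hc1 v₀
    rw [hv₀, one_smul, hfw w₀ hw₀, hv₀, mul_one, ← hlam₀, smul_smul] at h1
    exact ⟨c (X v₀) - c v₀ * lam, by linear_combination (norm := module) h1⟩
  have hlammu : lam = μ := by
    obtain ⟨u, hu, v, hv, hvu, hXu⟩ : ∃ u ∈ P.perp W, ∃ v, P.f v w₀ = 0 ∧ P.f v u ≠ 0 ∧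
        P.f (X v) u = μ * P.f v u := by
      by_cases hone : W ≤ Submodule.span F {w₀}
      · obtain ⟨u, hu, v, hv, hvu⟩ : ∃ u ∈ P.perp W, ∃ v ∈ P.perp W, P.f v u ≠ 0 := by
          by_contra hno
          push Not at hno
          have hle : P.perp W ≤ Submodule.span F {w₀} := fun u hu => by
            by_contra hus
            obtain ⟨v, hv, hvu⟩ := Pairing.exists_separating (P := P) hw₀0 hus
            refine hvu (hno u hu v (P.mem_perp.2 fun w hw => ?_))
            obtain ⟨a, rfl⟩ := Submodule.mem_span_singleton.1 (hone hw)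
            rw [P.smul_right, hv, mul_zero]
          have h1 : Module.finrank F (LinearMap.ker (P.lin w₀)) ≤ 1 := by
            have hsub : LinearMap.ker (P.lin w₀) ≤ P.perp W := fun v hv => P.mem_perp.2 fun w hw => by
              obtain ⟨a, rfl⟩ := Submodule.mem_span_singleton.1 (hone hw)
              rw [P.smul_right, show P.f v w₀ = 0 from hv, mul_zero]
            exact (Submodule.finrank_mono (hsub.trans hle)).trans (finrank_span_singleton hw₀0).le
          have h2 := LinearMap.finrank_range_add_finrank_ker (P.lin w₀)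
          have h3 := Submodule.finrank_le (LinearMap.range (P.lin w₀))
          rw [Module.finrank_self] at h3
          omega
        obtain ⟨k, hk⟩ := hmid v hv
        refine ⟨u, hu, v, hflat hw₀ v hv, hvu, ?_⟩
        rw [hk, P.add_left, P.smul_left, P.smul_left, P.refl _ _ (hflat hw₀ u hu), mul_zero,
          add_zero]
      · obtain ⟨w, hw, hww⟩ := SetLike.not_le_iff_exists.1 hone
        obtain ⟨v, hv, hvw⟩ := Pairing.exists_separating (P := P) hw₀0 hww
        exact ⟨w, hWperp hw, v, hv, hvw, hfw w hw v⟩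
    obtain ⟨c, hc1, hc0⟩ := key w₀ hw₀ hw₀0 u hu
    have h1 := hc1 v
    have hv' : P.f (X v) w₀ = 0 := by rw [hfw w₀ hw₀, hv, mul_zero]
    rw [hv, hv', zero_smul, zero_smul, zero_add, zero_add, hc0 v hv, hc0 _ hv', hXu, ← hlam₀,
      smul_smul, ← sub_eq_zero, ← sub_smul, smul_eq_zero] at h1
    have h2 : (ε * P.f v u) * (lam - μ) = 0 := by linear_combination h1.resolve_right hw₀0
    exact sub_eq_zero.1 ((mul_eq_zero.1 h2).resolve_left (mul_ne_zero hε hvu))
  have hnil : ((X : Module.End F V) - algebraMap F (Module.End F V) μ) ^ 3 = 0 := by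
    refine LinearMap.ext fun v => ?_
    obtain ⟨k, hk⟩ := hmid _ (hout v)
    have h1 : X (X v - μ • v) - μ • (X v - μ • v) = k • w₀ := by rw [hk, add_sub_cancel_left]
    simp only [pow_succ, pow_zero, one_mul, Module.End.mul_apply, LinearMap.sub_apply,
      Module.algebraMap_end_apply, LinearEquiv.coe_coe, LinearMap.zero_apply]
    rw [h1, map_smul, ← hlam₀, hlammu, smul_comm, sub_self]
  obtain ⟨ν, hν⟩ := scalar_of_nilpotent (by rw [hX, orderOf_injective ρ hinj]; exact hxp)
    (inv_ne_zero hτ) hnil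
  refine mem_center_iff.2 fun y => hinj ?_
  rw [map_mul, map_mul]
  refine LinearEquiv.ext fun v => ?_
  show ρ y (X v) = X (ρ y v)
  rw [hν, hν, map_smul]

end Cfsg.Agent.LieLocalChar.Form
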