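import Cfsg.Agent.Lib.LieLocalChar.Form

/-!
# The criterion for matrix groups preserving a form
-/

set_option autoImplicit false
set_option linter.unusedSectionVars false

namespace Cfsg.Agent.LieLocalChar.Mat

open Matrix Form

variable {F : Type*} [Field F] {ι : Type} [Fintype ι] [DecidableEq ι] {H : Type*} [Group H]
  {p : ℕ} [Fact p.Prime] [CharP F p]

local notation "Vec" => (ι → F)

/-- matrices as linear automorphisms -/
noncomputable def toEquiv : GL ι F →* (Vec ≃ₗ[F] Vec) :=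
  (LinearMap.GeneralLinearGroup.generalLinearEquiv F Vec).toMonoidHom.comp
    Matrix.GeneralLinearGroup.toLin.toMonoidHom

theorem toEquiv_apply (g : GL ι F) (v : Vec) :
    toEquiv g v = (g : Matrix ι ι F) *ᵥ v := rfl

theorem toEquiv_injective : Function.Injective (toEquiv : GL ι F → (Vec ≃ₗ[F] Vec)) := fun g h e =>
  Units.ext (Matrix.ext_iff_mulVec.2 fun v => by
    rw [← toEquiv_apply, ← toEquiv_apply, e])

theorem lc [Finite H] [Finite F] (P : Pairing F Vec) (S : Subgroup (GL ι F))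
    (hS0 : ∀ g ∈ S, ∀ u v, P.f ((g : Matrix ι ι F) *ᵥ u) ((g : Matrix ι ι F) *ᵥ v) = P.f u v)
    (φ : H →* GL ι F) (hinj : Function.Injective φ) (hφS : ∀ y, φ y ∈ S)
    (hnormal : ∀ a ∈ S, ∀ y : H, a * φ y * a⁻¹ ∈ φ.range) (hn : 3 ≤ Fintype.card ι)
    {ε : F} (hε : ε ≠ 0) (good : Vec → Prop)
    (hS : ∀ w, w ≠ 0 → good w → ∀ u, P.f u w = 0 → ∃ a ∈ S, ∃ c : Vec → F,
      (∀ v, (a : Matrix ι ι F) *ᵥ v = v + P.f v w • u + c v • w) ∧
        ∀ v, P.f v w = 0 → c v = ε * P.f v u)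
    (hTv : ∀ w, good w → P.f w w = 0 → Fintype.card ι ≤ 4 → ∃ a ∈ S, ∃ t : F, t ≠ 0 ∧
      ∀ v, (a : Matrix ι ι F) *ᵥ v = v + (t * P.f v w) • w)
    (hW : ∀ T : Subgroup H, IsPGroup p T → T ≠ ⊥ → ∃ W : Submodule F Vec, W ≠ ⊥ ∧
      (∀ u ∈ W, ∀ v ∈ W, P.f u v = 0) ∧ (∀ w ∈ W, good w) ∧
      ∀ y ∈ Subgroup.normalizer (T : Set H), ∀ v ∈ W, (φ y : Matrix ι ι F) *ᵥ v ∈ W) :
    LC p (Subgroup.center H) := by
  refine Form.lc P (S.map toEquiv) ?_ (toEquiv.comp φ) (toEquiv_injective.comp hinj)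
    (fun y => Subgroup.mem_map_of_mem _ (hφS y)) ?_ (by rwa [Module.finrank_pi]) hε good
    (fun w hw hg u hu => ?_) (fun w hg hw hn4 => ?_) hW
  · rintro _ ⟨g, hg, rfl⟩ u v
    exact hS0 g hg u v
  · rintro _ ⟨g, hg, rfl⟩ y
    obtain ⟨z, hz⟩ := hnormal g hg y
    exact ⟨z, by simp [hz]⟩
  · obtain ⟨a, ha, c, h⟩ := hS w hw hg u hu
    exact ⟨_, Subgroup.mem_map_of_mem _ ha, c, h⟩
  · obtain ⟨a, ha, t, h⟩ := hTv w hg hw (by rwa [Module.finrank_pi] at hn4)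
    exact ⟨_, Subgroup.mem_map_of_mem _ ha, t, h⟩

/-- The default invariant subspace. -/
theorem fixRad_spec [Finite H] [Finite F] (P : Pairing F Vec) (φ : H →* GL ι F)
    (hinj : Function.Injective φ)
    (hφ : ∀ (y : H) (u v : Vec), P.f ((φ y : Matrix ι ι F) *ᵥ u) ((φ y : Matrix ι ι F) *ᵥ v) = P.f u v)
    (T : Subgroup H) (hT : IsPGroup p T) (hne : T ≠ ⊥) :
    ∃ W : Submodule F Vec, W ≠ ⊥ ∧ (∀ u ∈ W, ∀ v ∈ W, P.f u v = 0) ∧
      ∀ y ∈ Subgroup.normalizer (T : Set H), ∀ v ∈ W, (φ y : Matrix ι ι F) *ᵥ v ∈ W :=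
  ⟨P.fixRad (toEquiv.comp φ) T,
    Pairing.fixRad_ne_bot (ρ := toEquiv.comp φ) hφ (toEquiv_injective.comp hinj) hT hne,
    fun _ hu _ hv => Pairing.fixRad_isotropic hu hv,
    fun _ hy _ hv => Pairing.fixRad_invariant (ρ := toEquiv.comp φ) hφ T hy hv⟩

end Cfsg.Agent.LieLocalChar.Mat
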