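import Cfsg.Agent.SimpleFacts.BorelTits.Main
import Cfsg.Agent.Lib.Chevalley.Twist.BN
import Cfsg.Agent.Lib.Chevalley.Twist.Count
import Cfsg.Agent.Lib.Chevalley.TorusCard

/-!
# The normaliser of a `p`-subgroup of a twisted group

Forms invariant under the twist: among those pushing a subgroup of the fixed group into
`U(f ≥ 1)` the shortest is unique, and the normaliser fixes it.
-/

set_option autoImplicit false
set_option linter.unusedSectionVars false

open scoped Matrix

namespace Cfsg.Agent.LieLocalChar.TwistForm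

open Cfsg.Lie Cfsg.Agent.Chevalley.Table Cfsg.Agent.Chevalley.Cert Cfsg.Agent.Chevalley.Group
  Cfsg.Agent.Chevalley.Weight Cfsg.Agent.Chevalley.Unip Cfsg.Agent.Chevalley.Borel
  Cfsg.Agent.Chevalley.Weyl Cfsg.Agent.Chevalley.NormalForm Cfsg.Agent.Chevalley.Twist
  Cfsg.Agent.Chevalley.WeylEnum Cfsg.Agent.SimpleFacts.BorelTits


variable {D : ChevalleyDatum} {F : Type*} [Field F] {T : Tab} {hC : Certified D T}

/-- The weights of the roots are compatible with the twist. -/
structure Compat (S : Tw hC F) (m : ℕ → ℕ) (θ : ℝ) : Prop where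
  θ_pos : 0 < θ
  m_pos : ∀ r < D.nroots, 0 < m r
  refl : ∀ i < D.rank, ∀ r < D.nroots, m (D.reflectRoot i r) = m r
  cart : ∀ i < D.rank, ∀ r < D.nroots,
    D.cartan (S.π i) (S.ρ r) * (m (D.simple i) : ℤ) = (m r : ℤ) * D.cartan i r

/-- A form follows the twist. -/
def Invariant (S : Tw hC F) (m : ℕ → ℕ) (θ : ℝ) (f : ℕ → ℝ) : Prop :=
  ∀ r < D.nroots, f (S.ρ r) = (m r : ℝ) * θ * f r

variable {S : Tw hC F} {m : ℕ → ℕ} {θ : ℝ}

theorem m_wL (hc : Compat S m θ) : ∀ {L : List ℕ}, (∀ i ∈ L, i < D.rank) →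
    ∀ {r : ℕ}, r < D.nroots → m (wL D L r) = m r := by
  intro L
  induction L with
  | nil => exact fun _ _ _ => rfl
  | cons i L ih =>
    intro hL r hr
    have hL' : ∀ j ∈ L, j < D.rank := fun j hj => hL j (List.mem_cons_of_mem i hj)
    exact (hc.refl i (hL i List.mem_cons_self) _ (wL_lt hC hL' hr)).trans (ih hL' hr)

theorem Invariant.of_simple (hc : Compat S m θ) {f : ℕ → ℝ} (hf : IsWt D f)
    (h : ∀ i < D.rank, f (D.simple (S.π i)) = (m (D.simple i) : ℝ) * θ * f (D.simple i)) :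
    Invariant S m θ f := by
  refine Cfsg.Agent.Chevalley.Root.simple_induction hC (fun i hi => ?_) fun r hr i hi ih => ?_
  · rw [S.ρ_simple i hi]; exact h i hi
  · rw [hc.refl i hi r hr, ρ_reflect S hi hr,
      hf.apply_reflect hC (S.π_lt i hi) (S.ρ_lt r hr), ih, h i hi, hf.apply_reflect hC hi hr]
    have e : ((D.cartan (S.π i) (S.ρ r) : ℝ)) * (m (D.simple i) : ℝ) =
        (m r : ℝ) * (D.cartan i r : ℝ) := by exact_mod_cast hc.cart i hi r hr
    linear_combination (-(θ * f (D.simple i))) * e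

theorem Invariant.average {f g : ℕ → ℝ} (hf : Invariant S m θ f) (hg : Invariant S m θ g) :
    Invariant S m θ (fun r => (f r + g r) / 2) := fun r hr => by
  show (f (S.ρ r) + g (S.ρ r)) / 2 = _
  rw [hf r hr, hg r hr]; ring

theorem Invariant.comp (hc : Compat S m θ) {f : ℕ → ℝ} (hf : Invariant S m θ f) {L : List ℕ}
    (hL : ∀ i ∈ L, i < D.rank) (hE : Equiv' S L) : Invariant S m θ (fun r => f (wL D L r)) :=
  fun r hr => by
    show f (wL D L (S.ρ r)) = _
    rw [hE r hr, hf _ (wL_lt hC hL hr), m_wL hc hL hr]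

theorem equiv_reverse {L : List ℕ} (hL : ∀ i ∈ L, i < D.rank) (hE : Equiv' S L) :
    Equiv' S L.reverse := fun r hr => by
  have hLr : ∀ i ∈ L.reverse, i < D.rank := fun i hi => hL i (List.mem_reverse.1 hi)
  have hlt := wL_lt hC hLr hr
  have hback : wL D L (wL D L.reverse r) = r := by simpa using wL_reverse hC hLr hr
  conv_lhs => rw [← hback, ← hE _ hlt, wL_reverse hC hL (S.ρ_lt _ hlt)]

variable (O : Orbits S)

/-- The values of an invariant form on an orbit differ by positive factors. -/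
theorem orbit_scale (hc : Compat S m θ) {f : ℕ → ℝ} (hf : Invariant S m θ f) {a : ℕ} (ha : a < O.k)
    {i j : ℕ} (hi : i ∈ O.J a) (hj : j ∈ O.J a) :
    ∃ c : ℝ, 0 < c ∧ f (D.simple j) = c * f (D.simple i) := by
  obtain ⟨n, rfl⟩ := O.trans a ha i hi j hj
  clear hj
  induction n with
  | zero => exact ⟨1, one_pos, (one_mul _).symm⟩
  | succ n ih =>
    obtain ⟨c, hc0, e⟩ := ih
    have hin := π_iterate_lt (S := S) (O.J_lt a ha i hi) n
    refine ⟨(m (D.simple (S.π^[n] i)) : ℝ) * θ * c,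
      mul_pos (mul_pos (by exact_mod_cast hc.m_pos _ (hC.simple_lt hin)) hc.θ_pos) hc0, ?_⟩
    rw [Function.iterate_succ', Function.comp_apply, ← S.ρ_simple _ hin,
      hf _ (hC.simple_lt hin), e]
    ring

theorem flatMap_reverse : ∀ w : List ℕ, (∀ a ∈ w, a < O.k) → ∀ r < D.nroots,
    wL D (w.flatMap O.J) (wL D (w.reverse.flatMap O.J) r) = r := by
  intro w
  induction w with
  | nil => exact fun _ _ _ => rfl
  | cons a w ih =>
    intro hw r hr
    have ha := hw a List.mem_cons_self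
    have hw' : ∀ b ∈ w, b < O.k := fun b hb => hw b (List.mem_cons_of_mem a hb)
    rw [List.reverse_cons, List.flatMap_append, List.flatMap_cons, wL_append, wL_append,
      List.flatMap_singleton, ih hw' _ (wL_lt hC (O.J_lt a ha) hr), O.invol a ha r hr]

theorem apply_orbit_of_zero (hC : Certified D T) {f : ℕ → ℝ} (hf : IsWt D f) : ∀ {L : List ℕ}, (∀ i ∈ L, i < D.rank) →
    (∀ i ∈ L, f (D.simple i) = 0) → ∀ {r : ℕ}, r < D.nroots → f (wL D L r) = f r := by
  intro L
  induction L with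
  | nil => exact fun _ _ _ _ => rfl
  | cons i L ih =>
    intro hL h0 r hr
    have hL' : ∀ j ∈ L, j < D.rank := fun j hj => hL j (List.mem_cons_of_mem i hj)
    show f (D.reflectRoot i (wL D L r)) = f r
    rw [hf.apply_reflect hC (hL i List.mem_cons_self) (wL_lt hC hL' hr), h0 i List.mem_cons_self,
      mul_zero, sub_zero]
    exact ih hL' (fun j hj => h0 j (List.mem_cons_of_mem i hj)) hr

/-- Some product of orbit elements makes an invariant form dominant. -/
theorem exists_dominant (hc : Compat S m θ) {f : ℕ → ℝ} (hf : IsWt D f)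
    (hi : Invariant S m θ f) :
    ∃ w : List ℕ, (∀ a ∈ w, a < O.k) ∧ Dominant D (fun r => f (wL D (w.flatMap O.J) r)) := by
  classical
  suffices key : ∀ N : ℕ, ∀ f : ℕ → ℝ, IsWt D f → Invariant S m θ f →
      ((Finset.range D.nroots).filter fun r => 0 < T.phi r ∧ f r < 0).card ≤ N →
      ∃ w : List ℕ, (∀ a ∈ w, a < O.k) ∧ Dominant D (fun r => f (wL D (w.flatMap O.J) r)) from
    key _ f hf hi le_rfl
  intro N
  induction N with
  | zero =>
    intro f hf _ hN
    refine ⟨[], by simp, fun i hi => ?_⟩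
    by_contra hlt
    have : D.simple i ∈ (Finset.range D.nroots).filter fun r => 0 < T.phi r ∧ f r < 0 :=
      Finset.mem_filter.2 ⟨Finset.mem_range.2 (hC.simple_lt hi), hC.phi_simple hi, not_le.1 hlt⟩
    rw [Finset.card_eq_zero.1 (Nat.le_zero.1 hN)] at this
    exact absurd this (Finset.notMem_empty _)
  | succ N ih =>
    intro f hf hfi hN
    by_cases hd : Dominant D f
    · exact ⟨[], by simp, hd⟩
    obtain ⟨i, hi, hlt⟩ : ∃ i < D.rank, f (D.simple i) < 0 := by
      by_contra hcon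
      exact hd fun i hi => not_lt.1 fun h => hcon ⟨i, hi, h⟩
    obtain ⟨a, ha, hia⟩ := O.cover i hi
    have hJ := O.J_lt a ha
    have hneg : ∀ r < D.nroots, 0 < T.phi r → T.phi (wL D (O.J a) r) < 0 → f r < 0 := by
      obtain ⟨b, hb⟩ := hf
      intro r
      induction r using Nat.strong_induction_on with
      | _ r ihr =>
        intro hr hp hn
        rcases O.decomp a ha r hr hp hn with ⟨j, hj, rfl⟩ |
          ⟨x, y, q, hx, hy, hpx, hpy, hJx, hJy, hq, rfl⟩
        · obtain ⟨c, hc0, e⟩ := orbit_scale O hc hfi ha hia hj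
          rw [e]; exact mul_neg_of_pos_of_neg hc0 hlt
        have h2 := Cfsg.Agent.Chevalley.StUnip.chain_linear (f := fun r => T.phi r) (a := 0) hC
          (fun r _ => by simp [Cfsg.Agent.Chevalley.Graded.lin]) hx hq
        simp only [Nat.cast_zero, zero_add, one_mul] at h2
        have h3 := ihr x ((hC.phi_lt_iff hx hr).1 (by omega)) hx hpx hJx
        have h4 := ihr y ((hC.phi_lt_iff hy hr).1 (by omega)) hy hpy hJy
        rw [hb _ hr, wv_chain hC b hx hq, ← hb x hx, ← hb y hy]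
        push_cast
        linarith
    have hcard : ((Finset.range D.nroots).filter fun r =>
        0 < T.phi r ∧ f (wL D (O.J a) r) < 0).card ≤ N := by
      have hmemf : D.simple i ∈ (Finset.range D.nroots).filter fun r => 0 < T.phi r ∧ f r < 0 :=
        Finset.mem_filter.2 ⟨Finset.mem_range.2 (hC.simple_lt hi), hC.phi_simple hi, hlt⟩
      have h1 : ((Finset.range D.nroots).filter fun r =>
          0 < T.phi r ∧ f (wL D (O.J a) r) < 0).card ≤
          (((Finset.range D.nroots).filter fun r => 0 < T.phi r ∧ f r < 0).erase (D.simple i)).card := by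
        refine Finset.card_le_card_of_injOn (wL D (O.J a)) (fun r hr => ?_) ?_
        · simp only [Finset.coe_filter, Finset.mem_range, Set.mem_ofPred_eq] at hr
          obtain ⟨hr, hp, hn⟩ := hr
          have hlt' := wL_lt hC hJ hr
          have hpos : 0 < T.phi (wL D (O.J a) r) := by
            by_contra hcon
            have h1 : T.phi (wL D (O.J a) r) < 0 := by have := hC.phi_ne_zero hlt'; omega
            have h3 := hneg _ (hC.neg_lt hlt') (by rw [hC.phi_neg hlt']; omega)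
              (by rw [wL_neg hC hJ hlt', O.invol a ha r hr, hC.phi_neg hr]; omega)
            rw [hf.apply_neg hC hlt'] at h3
            linarith
          refine Finset.mem_erase.2 ⟨fun e => ?_, Finset.mem_filter.2
            ⟨Finset.mem_range.2 hlt', hpos, hn⟩⟩
          have h1 := O.neg_simple a ha i hia
          rw [← e, O.invol a ha r hr] at h1
          omega
        · intro x hx y hy e
          simp only [Finset.coe_filter, Finset.mem_range, Set.mem_ofPred_eq] at hx hy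
          exact wL_injective hC hJ hx.1 hy.1 e
      rw [Finset.card_erase_of_mem hmemf] at h1
      omega
    obtain ⟨w, hw, hdom⟩ := ih _ (hf.comp_wL hC hJ)
      (hfi.comp hc hJ fun r hr => O.commute a ha r hr) hcard
    refine ⟨a :: w, fun b hb => (List.mem_cons.1 hb).elim (fun e => e ▸ ha) (hw b), ?_⟩
    intro j hj
    show 0 ≤ f (wL D ((a :: w).flatMap O.J) (D.simple j))
    rw [List.flatMap_cons, wL_append]
    exact hdom j hj

variable {K : Subgroup (GL D.Idx F)}

/-- The subgroup is conjugate inside `K` into `U(f ≥ 1)`. -/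
def FeasibleK (hC : Certified D T) (K Q : Subgroup (GL D.Idx F)) (f : ℕ → ℝ) : Prop :=
  ∃ g ∈ K, ∀ q ∈ Q, g⁻¹ * q * g ∈ XSub hC F (fun r => 1 ≤ f r)

theorem feasible_comp (hK : GenData O K) {Q : Subgroup (GL D.Idx F)} {f : ℕ → ℝ} {w : List ℕ}
    (hw : ∀ a ∈ w, a < O.k) (h : FeasibleK hC K Q f) :
    FeasibleK hC K Q (fun r => f (wL D (w.flatMap O.J) r)) := by
  obtain ⟨g, hg, hq⟩ := h
  have hwr : ∀ a ∈ w.reverse, a < O.k := fun a ha => hw a (List.mem_reverse.1 ha)
  obtain ⟨c, hc⟩ := top_mono_mem O hK _ hwr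
  refine ⟨g * (tor D c * nL hC F (w.reverse.flatMap O.J))⁻¹, mul_mem hg (inv_mem hc),
    fun q hqQ => ?_⟩
  have h1 := conj_monomial_XSub hC (flatMap_lt O hwr) c
    (Q := fun r => 1 ≤ f (wL D (w.flatMap O.J) r))
    (fun r hr h => by rwa [flatMap_reverse O w hw r hr]) (hq q hqQ)
  simpa [mul_assoc] using h1

/-- Among the feasible invariant forms one is shortest; it may be taken dominant. -/
theorem exists_minimal (hK : GenData O K) (hc : Compat S m θ) {Q : Subgroup (GL D.Idx F)}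
    {f₀ : ℕ → ℝ} (hf₀ : IsWt D f₀) (hi₀ : Invariant S m θ f₀) (h₀ : FeasibleK hC K Q f₀) :
    ∃ f : ℕ → ℝ, IsWt D f ∧ Invariant S m θ f ∧ Dominant D f ∧ FeasibleK hC K Q f ∧
      ∀ g : ℕ → ℝ, IsWt D g → Invariant S m θ g → FeasibleK hC K Q g →
        energy D f ≤ energy D g := by
  classical
  let A : (Fin D.rank → ℝ) →ₗ[ℝ] (Fin D.nroots → ℝ) :=
    { toFun := fun a r => ∑ j : Fin D.rank, a j * (D.cartan j r : ℝ)
      map_add' := fun a b => by
        funext r
        simp [add_mul, Finset.sum_add_distrib]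
      map_smul' := fun c a => by
        funext r
        simp [Finset.mul_sum, mul_assoc] }
  let I : Set (Fin D.nroots → ℝ) :=
    ⋂ r : Fin D.nroots, {x | x ⟨S.ρ r, S.ρ_lt r r.2⟩ = (m r : ℝ) * θ * x r}
  let Sel : Finset (Fin D.nroots) → Prop := fun Ψ => ∃ g ∈ K, ∀ q ∈ Q,
    g⁻¹ * q * g ∈ XSub hC F (fun r => ∃ h : r < D.nroots, (⟨r, h⟩ : Fin D.nroots) ∈ Ψ)
  let En : (Fin D.nroots → ℝ) → ℝ := fun x => ∑ r, x r ^ 2
  let S' : Set (Fin D.nroots → ℝ) := ((LinearMap.range A : Set (Fin D.nroots → ℝ)) ∩ I) ∩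
    ⋃ Ψ ∈ {Ψ : Finset (Fin D.nroots) | Sel Ψ}, {x | ∀ r ∈ Ψ, 1 ≤ x r}
  have toS : ∀ g : ℕ → ℝ, IsWt D g → Invariant S m θ g → FeasibleK hC K Q g →
      (fun r : Fin D.nroots => g r) ∈ S' := by
    rintro g ⟨a, ha⟩ hi ⟨x, hx, hq⟩
    refine ⟨⟨⟨fun j => a j, ?_⟩, Set.mem_iInter.2 fun r => hi r r.2⟩, ?_⟩
    · funext r
      show ∑ j : Fin D.rank, a j * (D.cartan j r : ℝ) = g r
      rw [ha r r.2, wv, Finset.sum_range]
    · refine Set.mem_iUnion₂.2 ⟨Finset.univ.filter fun r : Fin D.nroots => 1 ≤ g r,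
        ⟨x, hx, fun q hqQ => ?_⟩, fun r hr => (Finset.mem_filter.1 hr).2⟩
      exact XSub_mono hC
        (fun r hr h => ⟨hr, Finset.mem_filter.2 ⟨Finset.mem_univ _, h⟩⟩) (hq q hqQ)
  have ofS : ∀ x ∈ S', ∃ g : ℕ → ℝ, IsWt D g ∧ Invariant S m θ g ∧ FeasibleK hC K Q g ∧
      energy D g = En x := by
    rintro x ⟨⟨⟨b, rfl⟩, hI⟩, hx⟩
    obtain ⟨Ψ, ⟨y, hy, hq⟩, hΨ⟩ := Set.mem_iUnion₂.1 hx
    let a : ℕ → ℝ := fun j => if h : j < D.rank then b ⟨j, h⟩ else 0
    have hval : ∀ r : Fin D.nroots, wv D a r = A b r := by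
      intro r
      show _ = ∑ j : Fin D.rank, b j * (D.cartan j r : ℝ)
      rw [wv, Finset.sum_range]
      exact Finset.sum_congr rfl fun j _ => by simp [a]
    refine ⟨wv D a, isWt_wv a, fun r hr => ?_,
      ⟨y, hy, fun q hqQ => XSub_mono hC ?_ (hq q hqQ)⟩, ?_⟩
    · rw [hval ⟨S.ρ r, S.ρ_lt r hr⟩, hval ⟨r, hr⟩]
      exact Set.mem_iInter.1 hI ⟨r, hr⟩
    · rintro r - ⟨hr, hr'⟩
      have := hΨ ⟨r, hr⟩ hr'
      rwa [← hval] at this
    · exact Finset.sum_congr rfl fun r _ => by rw [hval r]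
  let x₀ : Fin D.nroots → ℝ := fun r => f₀ r
  have hx₀ : x₀ ∈ S' := toS f₀ hf₀ hi₀ h₀
  have hEc : Continuous En := continuous_finsetSum _ fun r _ => (continuous_apply r).pow 2
  have hclosed : IsClosed S' := by
    refine ((Submodule.closed_of_finiteDimensional (LinearMap.range A)).inter
      (isClosed_iInter fun r : Fin D.nroots => isClosed_eq (continuous_apply _)
        (continuous_const.mul (continuous_apply _)))).inter ?_
    refine Set.Finite.isClosed_biUnion (Set.toFinite _) fun Ψ _ => ?_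
    have e : {x : Fin D.nroots → ℝ | ∀ r ∈ Ψ, 1 ≤ x r} = ⋂ r ∈ Ψ, {x | 1 ≤ x r} := by
      ext x; simp
    rw [e]
    exact isClosed_biInter fun r _ => isClosed_le continuous_const (continuous_apply r)
  have hKc : IsCompact (S' ∩ {x | En x ≤ En x₀}) := by
    refine (isCompact_closedBall (0 : Fin D.nroots → ℝ) (Real.sqrt (En x₀))).of_isClosed_subset
      (hclosed.inter (isClosed_le hEc continuous_const)) ?_
    rintro x ⟨-, hx⟩
    rw [mem_closedBall_zero_iff, pi_norm_le_iff_of_nonneg (Real.sqrt_nonneg _)]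
    intro r
    rw [Real.norm_eq_abs]
    refine Real.abs_le_sqrt ?_
    exact (Finset.single_le_sum (f := fun r => x r ^ 2) (fun r _ => sq_nonneg (x r))
      (Finset.mem_univ r)).trans hx
  obtain ⟨x, ⟨hxS, hx0⟩, hmin⟩ :=
    hKc.exists_isMinOn ⟨x₀, hx₀, le_refl (En x₀)⟩ hEc.continuousOn
  have hall : ∀ y ∈ S', En x ≤ En y := by
    intro y hy
    by_cases h : En y ≤ En x₀
    · exact hmin ⟨hy, h⟩
    · exact le_trans hx0 (le_of_lt (not_le.1 h))
  obtain ⟨g, hg, hgI, hgF, hgE⟩ := ofS x hxS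
  obtain ⟨w, hw, hdom⟩ := exists_dominant O hc hg hgI
  have hL := flatMap_lt O hw
  refine ⟨_, hg.comp_wL hC hL, hgI.comp hc hL (equiv_flatMap O w hw), hdom,
    feasible_comp O hK hw hgF, fun g' hg' hi' hF' => ?_⟩
  rw [energy_comp hC hL, hgE]
  exact hall _ (toS g' hg' hi' hF')

/-- An element normalising `Q` is `b n u` with `n` fixing the shortest form. -/
theorem normalizer_form (hK : GenData O K) (hc : Compat S m θ) {Q : Subgroup (GL D.Idx F)}
    {f : ℕ → ℝ} (hf : IsWt D f) (hfi : Invariant S m θ f) (hd : Dominant D f)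
    (hmin : ∀ g : ℕ → ℝ, IsWt D g → Invariant S m θ g → FeasibleK hC K Q g →
      energy D f ≤ energy D g)
    {g₁ : GL D.Idx F} (hg₁ : g₁ ∈ K)
    (hq : ∀ q ∈ Q, g₁⁻¹ * q * g₁ ∈ XSub hC F (fun r => 1 ≤ f r))
    {h : GL D.Idx F} (hN : h ∈ Subgroup.normalizer (Q : Set (GL D.Idx F))) (hh : h ∈ K) :
    ∃ v ∈ D.borelSubgroup F, v ∈ K ∧ ∃ u ∈ D.borelSubgroup F, u ∈ K ∧
      ∃ (c : ℕ → Fˣ) (L : List ℕ), (∀ i ∈ L, i < D.rank) ∧ tor D c * nL hC F L ∈ K ∧
        (∀ r < D.nroots, f (wL D L r) = f r) ∧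
        g₁⁻¹ * h * g₁ = v * (tor D c * nL hC F L) * u := by
  have hA := absorbing_form hC hf hd
  obtain ⟨v, hv, hvF, n, hn, hnF, u, hu, huF, e⟩ :=
    fixed_form S (hK.le (mul_mem (mul_mem (inv_mem hg₁) hh) hg₁))
  obtain ⟨c, L, hL, rfl⟩ := (mem_N_iff hC).1 hn
  have hUB : D.posUnipotent F ≤ D.borelSubgroup F := le_sup_left
  have hu' : u ∈ D.borelSubgroup F := hUB (Uminus_le_U hC _ hu)
  have hLr : ∀ i ∈ L.reverse, i < D.rank := fun i hi => hL i (List.mem_reverse.1 hi)
  have hvK : v ∈ K := Fx_le O hK hvF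
  refine ⟨v, hUB hv, hvK, u, hu', Fx_le O hK huF, c, L, hL, Fx_le O hK hnF, ?_, e⟩
  have havg : FeasibleK hC K Q (fun r => (f r + f (wL D L.reverse r)) / 2) := by
    refine ⟨g₁ * v, mul_mem hg₁ hvK, fun q hqQ => ?_⟩
    have h1 : (g₁ * v)⁻¹ * q * (g₁ * v) ∈ XSub hC F (fun r => 1 ≤ f r) := by
      have := conj_B_XSub hC hA (inv_mem (hUB hv)) (hq q hqQ)
      simpa [mul_assoc] using this
    refine mem_average hC hf hd hLr h1 ?_
    have hqh : h⁻¹ * q * h ∈ Q := by
      have := (Subgroup.mem_normalizer_iff.1 (inv_mem hN) q).1 hqQ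
      simpa using this
    have h2 := conj_B_XSub hC hA hu' (hq _ hqh)
    have h3 := conj_monomial_XSub hC hL c (Q := fun r => 1 ≤ f (wL D L.reverse r))
      (fun r hr h => by rwa [wL_reverse hC hL hr]) h2
    convert h3 using 1
    rw [show h = g₁ * (v * (tor D c * nL hC F L) * u) * g₁⁻¹ by rw [← e]; group]
    group
  have heq := eq_of_energy (energy_comp hC hLr f)
    (hmin _ (hf.average (hf.comp_wL hC hLr))
      (hfi.average (hfi.comp hc hLr (equiv_reverse hL (equiv_of_fixed hL hnF)))) havg)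
  intro r hr
  have := heq _ (wL_lt hC hL hr)
  rw [wL_reverse hC hL hr] at this
  exact this.symm

omit S O K in
/-- A form with prescribed values on the fundamental roots. -/
theorem exists_wt (adj : Matrix (Fin D.rank) (Fin D.rank) ℤ) (d : ℤ) (hd : d ≠ 0)
    (h : adj * Cfsg.Agent.Chevalley.TorusCard.cartanMat D = d • 1) (v : ℕ → ℝ) :
    ∃ f : ℕ → ℝ, IsWt D f ∧ ∀ i < D.rank, f (D.simple i) = v i := by
  classical
  let MR : Matrix (Fin D.rank) (Fin D.rank) ℝ :=
    (Int.castRingHom ℝ).mapMatrix (Cfsg.Agent.Chevalley.TorusCard.cartanMat D)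
  let AR : Matrix (Fin D.rank) (Fin D.rank) ℝ := (d : ℝ)⁻¹ • (Int.castRingHom ℝ).mapMatrix adj
  have hAM : AR * MR = 1 := by
    rw [Matrix.smul_mul, ← map_mul, h, map_zsmul, map_one, ← Int.cast_smul_eq_zsmul ℝ, smul_smul,
      inv_mul_cancel₀ (Int.cast_ne_zero.2 hd), one_smul]
  let a : Fin D.rank → ℝ := AR *ᵥ fun k => v k
  have ha : MR *ᵥ a = fun k : Fin D.rank => v k := by
    rw [Matrix.mulVec_mulVec, mul_eq_one_comm.1 hAM, Matrix.one_mulVec]
  refine ⟨wv D (fun j => if hj : j < D.rank then a ⟨j, hj⟩ else 0), isWt_wv _, fun i hi => ?_⟩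
  rw [wv, Finset.sum_range, ← congrFun ha ⟨i, hi⟩]
  refine Finset.sum_congr rfl fun j _ => ?_
  rw [dif_pos j.2, mul_comm]
  rfl

end Cfsg.Agent.LieLocalChar.TwistForm
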