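import Cfsg.Agent.Lib.LieLocalChar.Basic
import Cfsg.Agent.Lib.LieLocalChar.TwistForm
import Cfsg.Agent.SimpleFacts.ChevalleyRadical
import Cfsg.Agent.Lib.Chevalley.Twist.AutPara

/-!
# Twisted groups have local characteristic `p`

The normaliser of a `p`-subgroup lies in a proper parabolic of the fixed group, whose `O_p` has
centraliser inside it: an orbit in the parabolic moved by a `p'`-element centralising `O_p` would
have to fix a root group it sends into another radical.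
-/

set_option autoImplicit false
set_option linter.unusedSectionVars false

open scoped Matrix Pointwise

namespace Cfsg.Agent.LieLocalChar.TwistLC

open Subgroup Cfsg.Lie Cfsg.Agent.Chevalley.Table Cfsg.Agent.Chevalley.Cert
  Cfsg.Agent.Chevalley.Group Cfsg.Agent.Chevalley.Weight Cfsg.Agent.Chevalley.Unip
  Cfsg.Agent.Chevalley.Borel Cfsg.Agent.Chevalley.Weyl Cfsg.Agent.Chevalley.NormalForm
  Cfsg.Agent.Chevalley.Twist Cfsg.Agent.Chevalley.WeylEnum Cfsg.Agent.SimpleFacts.BorelTits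
  Cfsg.Agent.LieLocalChar.TwistForm

section group

variable {G : Type*} [Group G] {p : ℕ} [Fact p.Prime]

/-- `p'`-elements centralising `O_p` of a group with rigid Sylow, when its centraliser is in `B`. -/
theorem eq_one_of_centralizes {P B U : Subgroup G} (hUB : U ≤ B) (hBP : B ≤ P) (hUp : IsPGroup p U)
    (hUn : B ≤ normalizer (U : Set G)) (hsyl : ∀ V : Subgroup G, IsPGroup p V → U ≤ V → V = U)
    (hM : P ⊓ centralizer (Cfsg.pCoreOf p P : Set G) ≤ B)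
    (hfin : ∀ x ∈ B, (orderOf x).Coprime p → (∀ u ∈ U, x * u = u * x) → x = 1)
    {x : G} (hx : x ∈ P) (hxc : x ∈ centralizer (Cfsg.pCoreOf p P : Set G))
    (hxp : (orderOf x).Coprime p) : x = 1 := by
  obtain ⟨R, hR⟩ : ∃ R, R = Cfsg.pCoreOf p P := ⟨_, rfl⟩
  rw [← hR] at hM hxc
  have hPR : P ≤ normalizer (R : Set G) := hR ▸ Cfsg.Agent.CharP.le_normalizer_pCoreOf p P
  have hMn : ∀ g ∈ P, ∀ w ∈ P ⊓ centralizer (R : Set G),
      g * w * g⁻¹ ∈ P ⊓ centralizer (R : Set G) := by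
    intro g hg w hw
    refine mem_inf.2 ⟨mul_mem (mul_mem hg (mem_inf.1 hw).1) (inv_mem hg),
      mem_centralizer_iff.2 fun r hr => ?_⟩
    have h1 := (mem_normalizer_iff.1 (hPR (inv_mem hg)) r).1 hr
    rw [inv_inv] at h1
    have h2 := mem_centralizer_iff.1 hw.2 _ h1
    calc r * (g * w * g⁻¹) = g * (g⁻¹ * r * g * w) * g⁻¹ := by group
      _ = g * (w * (g⁻¹ * r * g)) * g⁻¹ := by rw [h2]
      _ = _ := by group
  have hpU : ∀ b ∈ B, ∀ k : ℕ, b ^ p ^ k = 1 → b ∈ U := by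
    intro b hb k hk
    have hz : IsPGroup p (zpowers b) := by
      rintro ⟨w, hw⟩
      obtain ⟨j, rfl⟩ := mem_zpowers_iff.1 hw
      exact ⟨k, Subtype.ext (show (_ ^ j) ^ p ^ k = 1 by
        rw [← zpow_natCast, ← zpow_mul, mul_comm, zpow_mul, zpow_natCast, hk, one_zpow])⟩
    have h := hsyl (zpowers b ⊔ U)
      (hz.to_sup_of_normal_right' hUp ((zpowers_le.2 hb).trans hUn)) le_sup_right
    exact h ▸ mem_sup_left (mem_zpowers b)
  obtain ⟨W, hW⟩ : ∃ W, W = (P ⊓ centralizer (R : Set G)) ⊓ U := ⟨_, rfl⟩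
  have hWR : W ≤ R := by
    have key : ∀ g ∈ P, ∀ w ∈ W, g * w * g⁻¹ ∈ W := by
      intro g hg w hw
      rw [hW] at hw ⊢
      obtain ⟨k, hk⟩ := hUp ⟨w, hw.2⟩
      have h1 := hMn g hg w hw.1
      refine ⟨h1, hpU _ (hM h1) k ?_⟩
      rw [conj_pow, show w ^ p ^ k = 1 from congrArg Subtype.val hk, mul_one, mul_inv_cancel]
    rw [hR]
    refine Cfsg.Agent.CharP.le_pCoreOf (hW ▸ inf_le_right.trans (hUB.trans hBP)) (fun g hg => ?_)
      (hUp.to_le (hW ▸ inf_le_right))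
    refine mem_normalizer_iff.2 fun w => ⟨key g hg w, fun h => ?_⟩
    have := key g⁻¹ (inv_mem hg) _ h
    simpa [mul_assoc] using this
  have hxB : x ∈ B := hM ⟨hx, hxc⟩
  refine hfin x hxB hxp fun u hu => ?_
  obtain ⟨c, hc⟩ : ∃ c, c = x * u * x⁻¹ * u⁻¹ := ⟨_, rfl⟩
  have hcW : c ∈ W := by
    rw [hW, hc]
    refine mem_inf.2 ⟨?_, mul_mem ((mem_normalizer_iff.1 (hUn hxB) u).1 hu) (inv_mem hu)⟩
    rw [show x * u * x⁻¹ * u⁻¹ = x * (u * x⁻¹ * u⁻¹) by group]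
    exact mul_mem ⟨hx, hxc⟩ (hMn u (hBP (hUB hu)) _ (inv_mem (show x ∈ P ⊓ _ from ⟨hx, hxc⟩)))
  obtain ⟨k, hk⟩ := hUp ⟨c, (hW ▸ hcW : c ∈ (P ⊓ centralizer (R : Set G)) ⊓ U).2⟩
  refine commute_of_fixed hxp (c := c) (by rw [hc]; group) ?_ (k := k) (congrArg Subtype.val hk)
  rw [← mem_centralizer_iff.1 hxc c (hWR hcW), mul_inv_cancel_right]

end group

variable {D : ChevalleyDatum} {F : Type*} [Field F] {T : Tab} {hC : Certified D T} {S : Tw hC F}
  (O : Orbits S) {K : Subgroup (GL D.Idx F)}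

/-- The roots of the orbit `b`, moved by `w`, avoid the orbit `a` and the orbit `a` moves them off. -/
def PathOK (a b : ℕ) (w : List ℕ) : Prop :=
  ∀ r < D.nroots, 0 < T.phi r → T.phi (wL D (O.J b) r) < 0 →
    (0 < T.phi (wL D (w.flatMap O.J) r) ∧
      (∀ i ∈ O.J a, cor D (wL D (w.flatMap O.J) r) i = 0) ∧
      (∃ i ∈ O.J b, cor D (wL D (w.flatMap O.J) r) i ≠ 0)) ∧
    0 < T.phi (wL D (O.J a) (wL D (w.flatMap O.J) r)) ∧
    ∃ i ∈ O.J a, cor D (wL D (O.J a) (wL D (w.flatMap O.J) r)) i ≠ 0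

/-- The table version. -/
noncomputable def pathChk (T : Tab) (Js : List (List ℕ)) (a b : ℕ) (w : List ℕ) : Bool :=
  (List.range T.n).all fun r =>
    !(decide (0 < T.phi r) && decide (T.phi (applyW T (Js.getD b []) r) < 0)) ||
    (let s := applyW T (w.flatMap fun c => Js.getD c []) r
     let s' := applyW T (Js.getD a []) s
     decide (0 < T.phi s) && (Js.getD a []).all (fun i => decide (T.C s i = 0)) &&
     (Js.getD b []).any (fun i => !decide (T.C s i = 0)) &&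
     decide (0 < T.phi s') && (Js.getD a []).any (fun i => !decide (T.C s' i = 0)))

theorem pathOK_of_chk {Js : List (List ℕ)} (hJ : ∀ c, O.J c = Js.getD c []) {a b : ℕ}
    (ha : a < O.k) (hb : b < O.k) {w : List ℕ} (hw : ∀ c ∈ w, c < O.k)
    (h : pathChk T Js a b w = true) : PathOK O a b w := by
  intro r hr hp hn
  have hW : ∀ {L : List ℕ}, (∀ i ∈ L, i < D.rank) → ∀ {r}, r < D.nroots →
      applyW T L r = wL D L r := fun hL _ hr => Cfsg.Agent.Chevalley.StConj.actT_foldr hC hL hr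
  have hL := flatMap_lt O hw
  have hJe : (fun c => Js.getD c []) = O.J := funext fun c => (hJ c).symm
  have hlt := wL_lt hC hL hr
  have hlt' := wL_lt hC (O.J_lt a ha) hlt
  rw [pathChk, hJe, List.all_eq_true] at h
  have h1 := h r (List.mem_range.2 (hC.linked.n_eq ▸ hr))
  simp only [← hJ, hW (O.J_lt b hb) hr, hW hL hr, hW (O.J_lt a ha) hlt, decide_eq_true hp,
    decide_eq_true hn, Bool.and_self, Bool.not_true, Bool.false_or, Bool.and_eq_true,
    List.all_eq_true, List.any_eq_true, decide_eq_true_eq, Bool.not_eq_true',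
    decide_eq_false_iff_not] at h1
  obtain ⟨⟨⟨⟨h2, h3⟩, i, hi, h4⟩, h5⟩, j, hj, h6⟩ := h1
  refine ⟨⟨h2, fun l hl => ?_, i, hi, ?_⟩, h5, j, hj, ?_⟩
  · exact (hC.linked.C_eq _ hlt l (O.J_lt a ha l hl)).symm.trans (h3 l hl)
  · exact fun e => h4 ((hC.linked.C_eq _ hlt i (O.J_lt b hb i hi)).trans e)
  · exact fun e => h6 ((hC.linked.C_eq _ hlt' j (O.J_lt a ha j hj)).trans e)

variable (hK : GenData O K)
  (hne : ∀ a < O.k, ∃ x ∈ Fx S, x ≠ 1 ∧ ∀ c : ℕ → Fˣ,
    x ∈ Uminus D F (tor D c * nL hC F (O.J a)))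

/-- The parabolic subgroup of the orbits where a form vanishes. -/
noncomputable def para (f : ℕ → ℝ) : Subgroup K :=
  (bnK hK hne).parabolic
    {s | ∃ a < O.k, (∀ i ∈ O.J a, f (D.simple i) = 0) ∧ (s : GL D.Idx F) = mel hK a}

include hK hne

theorem B_le_para (f : ℕ → ℝ) : (bnK hK hne).B ≤ para O hK hne f :=
  Cfsg.Agent.BN.Parabolic.B_le_parabolic _

theorem mono_mem_para {f : ℕ → ℝ} (hf : IsWt D f) (hd : Dominant D f) :
    ∀ (N : ℕ) (c : ℕ → Fˣ) (L : List ℕ), (∀ i ∈ L, i < D.rank) → (invSet D T L).card = N →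
      tor D c * nL hC F L ∈ K → (∀ r < D.nroots, f (wL D L r) = f r) →
      tor D c * nL hC F L ∈ (para O hK hne f).map K.subtype := by
  intro N
  induction N using Nat.strong_induction_on with
  | _ N ih =>
    intro c L hL hN hmem hfix
    rcases Finset.eq_empty_or_nonempty (invSet D T L) with h0 | ⟨r, hr⟩
    · have hpos : ∀ i < D.rank, 0 < T.phi (wL D L (D.simple i)) := fun i hi => by
        by_contra hcon
        have h1 := hC.phi_ne_zero (wL_lt hC hL (hC.simple_lt hi))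
        have h2 : D.simple i ∈ invSet D T L := Finset.mem_filter.2
          ⟨Finset.mem_range.2 (hC.simple_lt hi), hC.phi_simple hi, by omega⟩
        rw [h0] at h2
        exact absurd h2 (Finset.notMem_empty _)
      obtain ⟨d, hd'⟩ := exists_tor_of_pos (F := F) hC hL hpos
      rw [hd', tor_mul] at hmem ⊢
      exact ⟨⟨_, hmem⟩, B_le_para O hK hne f
        ((mem_bnKB O hK hne).2 (H_le_B (tor_mem_H hC _))), rfl⟩
    simp only [invSet, Finset.mem_filter, Finset.mem_range] at hr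
    obtain ⟨a, ha, hneg⟩ := exists_orbit O hL (equiv_of_fixed hL (hK.le hmem)) hr.1 hr.2.1 hr.2.2
    have hJ := O.J_lt a ha
    have hA : ∀ i ∈ O.J a, f (D.simple i) = 0 := fun i hi => by
      have hs := hC.simple_lt (hJ i hi)
      have hn := hneg _ hs (hC.phi_simple (hJ i hi)) (O.neg_simple a ha i hi)
      have hlt := wL_lt hC hL hs
      have h1 := hf.nonneg hC hd (hC.neg_lt hlt) (by rw [hC.phi_neg hlt]; omega)
      rw [hf.apply_neg hC hlt, hfix _ hs] at h1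
      exact le_antisymm (by linarith) (hd i (hJ i hi))
    obtain ⟨d, hd'⟩ := mel_eq hK ha
    obtain ⟨c', L', hL', e, he⟩ := exists_quot O ha (c := c) (d := d) hL
    have hlt := invSet_step O hL hL' ha hneg (O.ne a ha) he
    have hmem' : tor D c' * nL hC F L' ∈ K := by
      rw [← e, ← hd']; exact mul_mem hmem (inv_mem (mel_mem hK a))
    obtain ⟨y, hy, hye⟩ := ih _ (hN ▸ hlt) c' L' hL' rfl hmem' fun r hr => by
      rw [he r hr, hfix _ (wL_lt hC hJ hr), apply_orbit_of_zero hC hf hJ hA hr]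
    refine ⟨y * ⟨_, mel_mem hK a⟩, mul_mem hy
      (Cfsg.Agent.BN.Parabolic.mem_parabolic_of_mem ⟨a, ha, hA, rfl⟩), ?_⟩
    show (y : GL D.Idx F) * mel hK a = _
    rw [show (y : GL D.Idx F) = tor D c' * nL hC F L' from hye, ← e, ← hd', inv_mul_cancel_right]

/-- The parabolic of the fixed group lies in that of the Chevalley group. -/
theorem para_le (f : ℕ → ℝ) :
    para O hK hne f ≤ (D.parabolicSubgroup F {j | f (D.simple j) = 0}).subgroupOf K := by
  refine sup_le (fun b hb => mem_subgroupOf.2 (mem_sup_left ((mem_bnKB O hK hne).1 hb)))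
    ((closure_le _).2 ?_)
  rintro s ⟨a, ha, hA, hs⟩
  obtain ⟨c, hc⟩ := mel_eq hK ha
  refine mem_subgroupOf.2 ?_
  rw [hs, hc]
  refine mul_mem (mem_sup_left (mem_sup_right (tor_mem_H hC c))) ?_
  have key : ∀ L : List ℕ, (∀ i ∈ L, i ∈ O.J a) →
      nL hC F L ∈ D.parabolicSubgroup F {j | f (D.simple j) = 0} := by
    intro L
    induction L with
    | nil => intro _; simp [nL]
    | cons i L ih =>
      intro hL
      have hi := hL i List.mem_cons_self
      rw [nL_cons]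
      exact mul_mem (Cfsg.Agent.Chevalley.Parabolic.ng_mem_parabolic hC (O.J_lt a ha i hi) (hA i hi))
        (ih fun j hj => hL j (List.mem_cons_of_mem i hj))
  exact key _ fun _ h => h

variable {N : List (List ℤ)} (hN : Cfsg.Agent.Chevalley.Coef.coefChk T N = true)
  {p : ℕ} [Fact p.Prime] [Finite F] [CharP F p]
include hN

/-- The radical lies in `O_p` of the parabolic. -/
theorem radical_le_pCore (f : ℕ → ℝ) :
    (D.unipotentRadical F {j | f (D.simple j) = 0}).subgroupOf K ≤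
      Cfsg.pCoreOf p (para O hK hne f) := by
  have hle := Cfsg.Agent.SimpleFacts.ChevalleyRadical.radical_le_U (F := F) hC
    {j | f (D.simple j) = 0}
  refine Cfsg.Agent.CharP.le_pCoreOf (fun y hy => B_le_para O hK hne f
    ((mem_bnKB O hK hne).2 (mem_sup_left (hle (mem_subgroupOf.1 hy))))) (fun g hg => ?_)
    ((((Cfsg.Agent.SimpleFacts.ChevalleyRadical.isPGroup_U hC p).to_le hle)).comap_of_injective _
      K.subtype_injective)
  have hgn := Cfsg.Agent.Chevalley.Parabolic.normalizes (F := F) hC hN _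
    (mem_subgroupOf.1 (para_le O hK hne f hg))
  exact mem_normalizer_iff.2 fun y => mem_normalizer_iff.1 hgn (y : GL D.Idx F)

/-- `O_p` of a proper parabolic has its centraliser in the Borel subgroup. -/
theorem centralizer_pCore_le_B {m : ℕ → ℕ} {θ : ℝ} (hc : Compat S m θ) {f : ℕ → ℝ}
    (hfi : Invariant S m θ f) (hproper : ∃ i < D.rank, f (D.simple i) ≠ 0)
    (hpath : ∀ a < O.k, ∀ b < O.k, a ≠ b → ∃ w : List ℕ, (∀ c ∈ w, c < O.k) ∧ PathOK O a b w) :
    para O hK hne f ⊓ centralizer (Cfsg.pCoreOf p (para O hK hne f) : Set K) ≤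
      (bnK hK hne).B := by
  obtain ⟨P, hP⟩ : ∃ P, P = para O hK hne f := ⟨_, rfl⟩
  obtain ⟨R, hR⟩ : ∃ R, R = Cfsg.pCoreOf p P := ⟨_, rfl⟩
  obtain ⟨M, hM⟩ : ∃ M, M = P ⊓ centralizer (R : Set K) := ⟨_, rfl⟩
  rw [← hP, ← hR, ← hM]
  by_contra hnle
  have hBP : (bnK hK hne).B ≤ P := hP ▸ B_le_para O hK hne f
  have hBM : (bnK hK hne).B ≤ normalizer (M : Set K) := by
    have h1 : P ≤ normalizer (R : Set K) := hR ▸ Cfsg.Agent.CharP.le_normalizer_pCoreOf p P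
    have key : ∀ g ∈ P, ∀ w ∈ M, g * w * g⁻¹ ∈ M := by
      intro g hg w hw
      rw [hM] at hw ⊢
      refine mem_inf.2 ⟨mul_mem (mul_mem hg (mem_inf.1 hw).1) (inv_mem hg),
      mem_centralizer_iff.2 fun r hr => ?_⟩
      have h2 := (mem_normalizer_iff.1 (h1 (inv_mem hg)) r).1 hr
      rw [inv_inv] at h2
      have h3 := mem_centralizer_iff.1 hw.2 _ h2
      calc r * (g * w * g⁻¹) = g * (g⁻¹ * r * g * w) * g⁻¹ := by group
        _ = g * (w * (g⁻¹ * r * g)) * g⁻¹ := by rw [h3]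
        _ = _ := by group
    exact fun g hg => mem_normalizer_iff.2 fun w => ⟨key g (hBP hg) w, fun h => by
      have := key g⁻¹ (inv_mem (hBP hg)) _ h
      simpa [mul_assoc] using this⟩
  obtain ⟨a, ha, haM⟩ := exists_melK_mem_PG O hK hne (M := (bnK hK hne).B ⊔ M) le_sup_left
    fun h => hnle (le_sup_right.trans h)
  -- the orbit lies in the parabolic
  have haA : ∀ i ∈ O.J a, f (D.simple i) = 0 := by
    have h1 : melK O hK a ∈ para O hK hne f :=
      hP ▸ sup_le hBP (hM ▸ inf_le_left) haM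
    have h2 := (Cfsg.Agent.BN.Parabolic.mem_iff_mem_parabolic (P := bnK hK hne)
      (fun s hs => ⟨hs.choose, hs.choose_spec.1, hs.choose_spec.2.2⟩)
      (melK_mem_BN O hK hne ha)).1 h1
    obtain ⟨a', ha', hA', e⟩ := h2
    have : a = a' := mel_inj hK ha ha' (by
      rw [show mel hK a' = mel hK a from e.symm, inv_mul_cancel]
      exact one_mem _)
    exact this ▸ hA'
  obtain ⟨i₀, hi₀, hf₀⟩ := hproper
  obtain ⟨b, hb, hib⟩ := O.cover i₀ hi₀
  have hbf : ∀ i ∈ O.J b, f (D.simple i) ≠ 0 := fun i hi h => by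
    obtain ⟨c, -, e⟩ := orbit_scale O hc hfi hb hi hib
    exact hf₀ (by rw [e, h, mul_zero])
  obtain ⟨w, hw, hok⟩ := hpath a ha b hb fun e => hf₀ (haA i₀ (e ▸ hib))
  -- a fixed element moved by the path
  obtain ⟨x, hxF, hx1, hxU⟩ := hne b hb
  obtain ⟨cw, hcw⟩ := top_mono_mem O hK w hw
  obtain ⟨n, hn⟩ : ∃ n, n = tor D cw * nL hC F (w.flatMap O.J) := ⟨_, rfl⟩
  rw [← hn] at hcw
  obtain ⟨d, hd⟩ := mel_eq hK ha
  have hLw := flatMap_lt O hw
  have hJa := O.J_lt a ha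
  let Pr : ℕ → Prop := fun r => 0 < T.phi r ∧ T.phi (wL D (O.J b) r) < 0
  let Q₁ : ℕ → Prop := fun r => ∃ r₀ < D.nroots, Pr r₀ ∧ r = wL D (w.flatMap O.J) r₀
  let Q₂ : ℕ → Prop := fun r => ∃ r₀, Q₁ r₀ ∧ r = wL D (O.J a) r₀
  have hxX : x ∈ XSub hC F Pr := by
    have h1 := hxU 1
    rw [Uminus_eq hC (O.J_lt b hb) 1] at h1
    refine Subgroup.closure_mono ?_ h1
    rintro _ ⟨r, t, hr, rfl⟩
    obtain ⟨h2, h3, h4⟩ := (mem_invList hC).1 hr
    exact ⟨r, t, h2, ⟨h3, h4⟩, rfl⟩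
  have hy : n * x * n⁻¹ ∈ XSub hC F Q₁ := by
    rw [hn]
    exact conj_monomial_XSub hC hLw cw (fun r hr h => ⟨r, hr, h, rfl⟩) hxX
  obtain ⟨y, hydef⟩ : ∃ y : K, (y : GL D.Idx F) = n * x * n⁻¹ :=
    ⟨⟨_, mul_mem (mul_mem hcw (Fx_le O hK hxF)) (inv_mem hcw)⟩, rfl⟩
  rw [← hydef] at hy
  obtain ⟨J', hJ'⟩ : ∃ J' : Set ℕ, J' = {i | i ∉ O.J a} := ⟨_, rfl⟩
  have hyR : y ∈ R := by
    rw [hR, hP]
    refine radical_le_pCore O hK hne hN f (mem_subgroupOf.2 ((Subgroup.closure_mono ?_) hy))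
    rintro _ ⟨r, t, hr, ⟨r₀, hr₀, ⟨hp₀, hn₀⟩, rfl⟩, rfl⟩
    obtain ⟨⟨h1, -, i, hi, h2⟩, -⟩ := hok r₀ hr₀ hp₀ hn₀
    exact ⟨_, t, (hC.posRoot_iff hr).2 h1,
      fun hJ => h2 (hJ.2 i (O.J_lt b hb i hi) (hbf i hi)), coe_xg hC _ t⟩
  have hyL : (y : GL D.Idx F) ∈ D.leviSubgroup F J' := by
    refine le_sup_right (a := D.diagonalSubgroup F) (Subgroup.closure_mono ?_ hy)
    rintro _ ⟨r, t, hr, ⟨r₀, hr₀, ⟨hp₀, hn₀⟩, rfl⟩, rfl⟩
    obtain ⟨⟨-, h1, -⟩, -⟩ := hok r₀ hr₀ hp₀ hn₀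
    refine ⟨_, t, ⟨hr, fun i hi hiJ => h1 i ?_⟩, coe_xg hC _ t⟩
    by_contra h
    exact hiJ (hJ' ▸ h)
  have hy2 : mel hK a * (y : GL D.Idx F) * (mel hK a)⁻¹ ∈ D.unipotentRadical F J' := by
    have h1 : mel hK a * (y : GL D.Idx F) * (mel hK a)⁻¹ ∈ XSub hC F Q₂ := by
      rw [hd]
      exact conj_monomial_XSub hC hJa d (fun r hr h => ⟨r, h, rfl⟩) hy
    refine Subgroup.closure_mono ?_ h1
    rintro _ ⟨r, t, hr, ⟨_, ⟨r₀, hr₀, ⟨hp₀, hn₀⟩, rfl⟩, rfl⟩, rfl⟩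
    obtain ⟨-, h2, i, hi, h3⟩ := hok r₀ hr₀ hp₀ hn₀
    exact ⟨_, t, (hC.posRoot_iff hr).2 h2,
      fun hJ => h3 (hJ.2 i (hJa i hi) (by rw [hJ']; exact fun h => h hi)), coe_xg hC _ t⟩
  -- the orbit element acts on it as an element of the Borel subgroup
  have hsplit : melK O hK a ∈ ((bnK hK hne).B : Set K) * (M : Set K) := by
    rw [← coe_mul_of_left_le_normalizer_right _ _ hBM]
    exact haM
  obtain ⟨β, hβ, μ, hμ, e⟩ := Set.mem_mul.1 hsplit
  have hμy : μ * y * μ⁻¹ = y := by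
    rw [SetLike.mem_coe, hM] at hμ
    rw [← mem_centralizer_iff.1 hμ.2 y hyR, mul_inv_cancel_right]
  have hconj : mel hK a * (y : GL D.Idx F) * (mel hK a)⁻¹ =
      (β : GL D.Idx F) * y * (β : GL D.Idx F)⁻¹ := by
    rw [show mel hK a = ((β * μ : K) : GL D.Idx F) by rw [e]; rfl]
    conv_rhs => rw [← hμy]
    simp only [Subgroup.coe_mul, Subgroup.coe_inv]
    group
  have hyU : (y : GL D.Idx F) ∈ D.unipotentRadical F J' := by
    rw [hconj] at hy2
    exact (mem_normalizer_iff.1 (Cfsg.Agent.Chevalley.Parabolic.normalizes (F := F) hC hN J'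
      (mem_sup_left ((mem_bnKB O hK hne).1 hβ))) _).2 hy2
  have h0 : (y : GL D.Idx F) ∈ D.unipotentRadical F J' ⊓ D.leviSubgroup F J' := ⟨hyU, hyL⟩
  rw [Cfsg.Agent.Chevalley.Parabolic.radical_inf_levi hC hN, mem_bot, hydef, mul_inv_eq_one,
    mul_eq_left] at h0
  exact hx1 h0

/-- **Twisted groups have local characteristic `p`.** -/
theorem lc {m : ℕ → ℕ} {θ : ℝ} (hc : Compat S m θ) {f₀ : ℕ → ℝ} (hf₀ : IsWt D f₀)
    (hi₀ : Invariant S m θ f₀) (hs₀ : ∀ i < D.rank, 1 ≤ f₀ (D.simple i))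
    (P₀ : Sylow p K) (hP₀ : (P₀ : Subgroup K) = UK D K)
    (hpath : ∀ a < O.k, ∀ b < O.k, a ≠ b → ∃ w : List ℕ, (∀ c ∈ w, c < O.k) ∧ PathOK O a b w)
    (hfin : ∀ x : K, (x : GL D.Idx F) ∈ D.borelSubgroup F → (orderOf x).Coprime p →
      (∀ u ∈ UK D K, x * u = u * x) → x = 1) :
    LC p (⊥ : Subgroup K) := by
  classical
  intro T' hT hne'
  obtain ⟨P', hP'⟩ := hT.exists_le_sylow
  obtain ⟨x₀, hx₀⟩ := MulAction.exists_smul_eq K P' P₀
  obtain ⟨Q, hQ⟩ : ∃ Q, Q = T'.map K.subtype := ⟨_, rfl⟩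
  have h₀ : FeasibleK hC K Q f₀ := by
    refine ⟨(x₀ : GL D.Idx F)⁻¹, inv_mem x₀.2, fun q hq => ?_⟩
    rw [hQ] at hq
    obtain ⟨t, ht, rfl⟩ := hq
    have h1 : x₀ * t * x₀⁻¹ ∈ (P₀ : Subgroup K) := by
      rw [← hx₀, Sylow.smul_def, Sylow.pointwise_smul_def]
      exact smul_mem_pointwise_smul _ (MulAut.conj x₀) _ (hP' ht)
    rw [hP₀, mem_subgroupOf, U_eq_closure hC] at h1
    rw [inv_inv]
    refine XSub_mono hC (fun r hr hp => hf₀.pos_root hC zero_le_one hs₀ r hr hp) ?_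
    simp only [Subgroup.coe_mul, Subgroup.coe_inv, coe_subtype] at h1 ⊢
    exact h1
  obtain ⟨f, hf, hfi, hd, ⟨g, hg, hq⟩, hmin⟩ := exists_minimal O hK hc hf₀ hi₀ h₀
  have hproper : ∃ i < D.rank, f (D.simple i) ≠ 0 := by
    by_contra hcon
    simp only [not_exists, not_and, not_not] at hcon
    have hall : ∀ r < D.nroots, f r = 0 := Cfsg.Agent.Chevalley.Root.simple_induction hC hcon
      fun r hr i hi ih => by rw [hf.apply_reflect hC hi hr, ih, hcon i hi, mul_zero, sub_zero]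
    refine hne' ((Subgroup.eq_bot_iff_forall _).2 fun t ht => ?_)
    have h1 := hq t (hQ ▸ mem_map_of_mem _ ht)
    have h2 : XSub hC F (fun r => 1 ≤ f r) = ⊥ := by
      rw [eq_bot_iff, closure_le]
      rintro _ ⟨r, t, hr, h, -⟩
      rw [hall r hr] at h
      norm_num at h
    rw [h2, mem_bot] at h1
    have h3 : (t : GL D.Idx F) = g * (g⁻¹ * t * g) * g⁻¹ := by group
    rw [show g⁻¹ * (t : GL D.Idx F) * g = 1 from h1, mul_one, mul_inv_cancel] at h3
    exact Subtype.ext h3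
  obtain ⟨g', hg'⟩ : ∃ g' : K, (g' : GL D.Idx F) = g := ⟨⟨g, hg⟩, rfl⟩
  obtain ⟨P, hP⟩ : ∃ P, P = para O hK hne f := ⟨_, rfl⟩
  obtain ⟨R, hR⟩ : ∃ R, R = Cfsg.pCoreOf p P := ⟨_, rfl⟩
  have hmem : ∀ y ∈ normalizer (T' : Set K), g'⁻¹ * y * g' ∈ P := by
    intro y hy
    obtain ⟨v, hv, hvK, u, hu, huK, c, L, hL, hnK, hfix, e⟩ :=
      normalizer_form O hK hc hf hfi hd hmin hg hq
        (hQ ▸ le_normalizer_map K.subtype (mem_map_of_mem _ hy)) y.2
    obtain ⟨z, hz, hze⟩ := mono_mem_para O hK hne hf hd _ c L hL rfl hnK hfix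
    replace hze : (z : GL D.Idx F) = tor D c * nL hC F L := hze
    have h1 : g'⁻¹ * y * g' = (⟨v, hvK⟩ : K) * z * ⟨u, huK⟩ := Subtype.ext (by
      simp only [Subgroup.coe_mul, Subgroup.coe_inv, hg', hze]
      exact e)
    rw [h1, hP]
    exact mul_mem (mul_mem (B_le_para O hK hne f ((mem_bnKB O hK hne).2 hv)) hz)
      (B_le_para O hK hne f ((mem_bnKB O hK hne).2 hu))
  have hPR : P ≤ normalizer (R : Set K) := hR ▸ Cfsg.Agent.CharP.le_normalizer_pCoreOf p P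
  refine ⟨R.map (MulAut.conj g').toMonoidHom,
    (hR ▸ Cfsg.Agent.CharP.isPGroup_pCoreOf p P).map _, fun y hy => ?_, fun x hxN hxp hxc => ?_⟩
  · have h1 := le_normalizer_map (MulAut.conj g').toMonoidHom
      (mem_map_of_mem _ (hPR (hmem y hy)))
    simpa [mul_assoc] using h1
  have h2 : g'⁻¹ * x * g' = 1 := by
    refine eq_one_of_centralizes (B := (bnK hK hne).B) (U := UK D K) (p := p)
      (fun z hz => (mem_bnKB O hK hne).2 (mem_sup_left (mem_subgroupOf.1 hz)))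
      (B_le_para O hK hne f) (hP₀ ▸ P₀.2)
      (fun b hb => ?_) (fun V hV hle => hP₀ ▸ P₀.3 hV (hP₀ ▸ hle))
      (centralizer_pCore_le_B O hK hne hN hc hfi hproper hpath)
      (fun z hz => hfin z ((mem_bnKB O hK hne).1 hz)) (hP ▸ hmem x hxN)
      (mem_centralizer_iff.2 fun r hr => ?_) ?_
    · obtain ⟨u, hu, h, hh, e⟩ := (mem_B_iff hC).1 ((mem_bnKB O hK hne).1 hb)
      have hbn : (b : GL D.Idx F) ∈ normalizer (D.posUnipotent F : Set (GL D.Idx F)) := by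
        rw [e]; exact mul_mem (le_normalizer hu) (H_normalizes_U hC hh)
      exact mem_normalizer_iff.2 fun z => mem_normalizer_iff.1 hbn (z : GL D.Idx F)
    · have h1 := hxc (g' * r * g'⁻¹) ⟨r, by rw [hR, hP]; exact hr, rfl⟩
      calc r * (g'⁻¹ * x * g') = g'⁻¹ * (g' * r * g'⁻¹ * x) * g' := by group
        _ = g'⁻¹ * (x * (g' * r * g'⁻¹)) * g' := by rw [h1]
        _ = _ := by group
    · rw [show g'⁻¹ * x * g' = MulAut.conj g'⁻¹ x by simp [mul_assoc], MulEquiv.orderOf_eq]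
      exact hxp
  rw [mem_bot]
  calc x = g' * (g'⁻¹ * x * g') * g'⁻¹ := by group
    _ = 1 := by rw [h2]; group

end Cfsg.Agent.LieLocalChar.TwistLC
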